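import Cfsg.Agent.Omega.OM.SwapL.Plug

/-!
# `SwapL.BG`: minimal parabolics which move `Ω₁Z(T)` are generated by `T` and blocks

`BG.bm`, `BG.low`.
-/

set_option autoImplicit false

namespace Cfsg.Agent.Omega.OM.SwapL

open Subgroup Cfsg Cfsg.Agent.ZN.ChoiceBase Cfsg.Agent.ZN.ChoiceSit
open Cfsg.Agent.ZN (jj zj bau zc zl o2)
open Cfsg.Agent.MinSimple.MinParabolic (IsMinPar)
open Cfsg.Agent.Omega.NO3S.Level (lev)
open Cfsg.Agent.Omega.OM.LevD (K0)

universe u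

variable {G : Type u} [Group G] [Finite G]

/-- Minimal parabolics which move `Ω₁Z(T)` are generated by `T` and blocks: the blocks at stage `n` and LL. -/
def BG (S : Sylow 2 G) (n : ℕ) (𝓑 : Subgroup G → Subgroup G → Prop) : Prop :=
  ∀ T Y : Subgroup G, Syl T Y → BL (S : Subgroup G) n ≤ T → IsMinPar T Y →
    Y ⊓ centralizer (o2 Y : Set G) ≤ o2 Y →
    LevD.BlkGen (lev (S : Subgroup G) (n + 1)) (ZL (S : Subgroup G) n) 𝓑 T Y

variable {S : Sylow 2 G} {n : ℕ} {𝓑 : Subgroup G → Subgroup G → Prop} {M : Subgroup G}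

theorem BG.bm (h : BG S n 𝓑) (hK : K0 (ZL (S : Subgroup G) n) 𝓑 ≤ M)
    (hN : normalizer (BL (S : Subgroup G) n : Set G) ≤ M) : BM S n M := fun T Y hT hB hY hc hn hZ =>
  (h T Y hT hB hY hc hn hZ).trans (sup_le hK (((lb S n).two_le hT.2.1 hB).trans hN))

theorem BG.low (h : BG S n 𝓑) (hK : K0 (ZL (S : Subgroup G) n) 𝓑 ≤ M)
    (hN : normalizer (BL (S : Subgroup G) n : Set G) ≤ M) : Low S n M := fun T Y hT hB hY hc hn hZ =>
  h.bm hK hN T Y hT hB hY hc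
    (fun h1 => hn ((NO3S.Level.lev_le_succ (S : Subgroup G) n).trans h1)) hZ

end Cfsg.Agent.Omega.OM.SwapL
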