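import Cfsg.Agent.Omega.OM.SwapL.Inv

/-!
# THEOREM SW at the levels: (TI) from `C_G(C_ZJ(T) z_j) ≤ M` only, `q = 2`

`(T, F)` is a pair, `r` an orbit of `O₂(F)` on the indices with at least two elements, `U = ∏_{j ∈ r} W j`. If
`1 ≠ x ∈ W i`, `i ∈ r`, `f ∈ F` and `f⁻¹ x f ∈ U`, then `f ∈ M` (`Ctx.ti`).
-/

set_option autoImplicit false

namespace Cfsg.Agent.Omega.OM.SwapL

open Subgroup Cfsg Cfsg.Agent.ZN.ChoiceBase Cfsg.Agent.ZN.ChoiceSit
open Cfsg.Agent.ZN (jj zj bau zc zl o2)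
open Cfsg.Agent.Omega.NO3S (HypN)
open Cfsg.Agent.Omega.NO3S.Level (lev Lev lev_isLev)
open Cfsg.Agent.Omega.OM.LevD (LB)
open Cfsg.Agent.PLocal.ElemAbSup
open Cfsg.Agent.Omega.SQ1.Bau (mem_sup_comm)

universe u

variable {G : Type u} [Group G] [Finite G]

section line

variable {ι : Type} [Finite ι] {S : Sylow 2 G} {P : Subgroup G} {n : ℕ} {L W Z C A : ι → Subgroup G}

/-- a member of `A i` which moves `W i` -/
theorem exists_tv (h : Ln S P n L W Z C A 2) (i : ι) : ∃ a ∈ A i, ∃ w ∈ W i, a * w ≠ w * a := by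
  have := h.fr.Ane i
  push Not at this
  exact this

/-- an element of `W i` outside `Z i` and its multiples -/
theorem W_cases (h : Ln S P n L W Z C A 2) {i : ι} {x w : G} (hx : x ∈ W i) (hxZ : x ∉ Z i) (hw : w ∈ W i) :
    w ∈ Z i ∨ w * x⁻¹ ∈ Z i := by
  by_cases hwZ : w ∈ Z i
  · exact Or.inl hwZ
  right
  have h1 : ((Z i).subgroupOf (W i)).index = 2 := by
    have h2 := relIndex_mul_relIndex ⊥ (Z i) (W i) bot_le (Z_W h i)
    rw [relIndex_bot_left, relIndex_bot_left, (h.fr.blk i).card, h.fr.cardZ i] at h2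
    have h3 : (Z i).relIndex (W i) = 2 := by omega
    exact h3
  have h2 : (⟨w, hw⟩ : W i) * ⟨x⁻¹, inv_mem hx⟩ ∈ (Z i).subgroupOf (W i) := by
    rw [Subgroup.mul_mem_iff_of_index_two h1]
    constructor
    · intro h3
      exact absurd (mem_subgroupOf.1 h3) hwZ
    · intro h3
      exact absurd (inv_mem_iff.1 (mem_subgroupOf.1 h3)) hxZ
  exact mem_subgroupOf.1 h2

/-- `b ∈ B` which moves `W i` moves every element of `W i` outside `Z i`. -/
theorem mv_act (h : Ln S P n L W Z C A 2) {i : ι} {b z : G} (hb : b ∈ BL (S : Subgroup G) n)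
    (hm : ∃ w ∈ W i, b * w ≠ w * b) (hz : z ∈ Z i) (hz1 : z ≠ 1) {x : G} (hx : x ∈ W i) (hxZ : x ∉ Z i) :
    b * x * b⁻¹ = x * z := by
  rcases act h.fr hz hz1 hb hx with h1 | h1
  · exfalso
    obtain ⟨w, hw, hne⟩ := hm
    apply hne
    have c1 : Commute b x := mul_inv_eq_iff_eq_mul.1 h1
    have cZ : ∀ y ∈ Z i, Commute b y := fun y hy => mul_inv_eq_iff_eq_mul.1 (by
      rw [(h.fr.blk i).cZ b hb y hy]; group)
    rcases W_cases h hx hxZ hw with h2 | h2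
    · exact (cZ w h2).eq
    · have h3 := (cZ _ h2).mul_right c1
      rw [inv_mul_cancel_right] at h3
      exact h3.eq
  · exact h1

/-- two elements of `B` which move `W i` act in the same way on `W i` -/
theorem same_act (h : Ln S P n L W Z C A 2) {i : ι} {a b : G} (ha : a ∈ BL (S : Subgroup G) n)
    (hb : b ∈ BL (S : Subgroup G) n) (hma : ∃ w ∈ W i, a * w ≠ w * a) (hmb : ∃ w ∈ W i, b * w ≠ w * b) {x : G}
    (hx : x ∈ W i) : a * x * a⁻¹ = b * x * b⁻¹ := by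
  obtain ⟨z, hz, hz1⟩ := Z_ne h i
  by_cases hxZ : x ∈ Z i
  · rw [(h.fr.blk i).cZ a ha x hxZ, (h.fr.blk i).cZ b hb x hxZ]; group
  · rw [mv_act h ha hma hz hz1 hx hxZ, mv_act h hb hmb hz hz1 hx hxZ]

/-- The data of (TI). -/
structure Ctx (S : Sylow 2 G) (P : Subgroup G) (n : ℕ) (L W Z C A : ι → Subgroup G) (M T F : Subgroup G)
    (r : Set ι) (z : ι → G) (tv : ι → G) : Prop where
  h : Ln S P n L W Z C A 2
  hp : Pair S P n M T F
  LM : ∀ i, L i ≤ M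
  NM : normalizer (BL (S : Subgroup G) n : Set G) ≤ M
  cen : ∀ i ∈ r, centralizer ((ZL (S : Subgroup G) n ⊓ centralizer (T : Set G) ⊔ Z i : Subgroup G) : Set G) ≤ M
  zZ : ∀ i, z i ∈ Z i
  zn : ∀ i, z i ≠ 1
  tvA : ∀ i, tv i ∈ A i
  tvm : ∀ i, ∃ w ∈ W i, tv i * w ≠ w * tv i
  tr : ∀ i ∈ r, ∀ j ∈ r, ∃ o ∈ o2 F, cj o (Z i) = Z j
  inv : ∀ o ∈ o2 F, ∀ i j, cj o (Z i) = Z j → (i ∈ r ↔ j ∈ r)
  nt : ∀ i ∈ r, ∃ j ∈ r, j ≠ i

namespace Ctx

variable {M T F : Subgroup G} {r : Set ι} {z tv : ι → G} (c : Ctx S P n L W Z C A M T F r z tv)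
include c

theorem tvB (i : ι) : tv i ∈ BL (S : Subgroup G) n := c.h.fr.AB i (c.tvA i)

theorem O_le : o2 F ≤ T := o2_le_syl c.hp.syl

theorem TN : T ≤ normalizer (BL (S : Subgroup G) n : Set G) := (lb S n).two_le c.hp.syl.2.1 c.hp.BT

theorem ON {o : G} (ho : o ∈ o2 F) : o ∈ normalizer (BL (S : Subgroup G) n : Set G) := c.TN (c.O_le ho)

theorem TF : T ≤ F := c.hp.syl.1

theorem TM : T ≤ M := c.TN.trans c.NM

theorem OF {o f : G} (ho : o ∈ o2 F) (hf : f ∈ F) : f * o * f⁻¹ ∈ o2 F :=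
  (mem_normalizer_iff.1 (le_normalizer_o2 F hf) o).1 ho

theorem OF' {o f : G} (ho : o ∈ o2 F) (hf : f ∈ F) : f⁻¹ * o * f ∈ o2 F := by
  have := c.OF ho (inv_mem hf)
  rwa [inv_inv] at this

/-- `z i` moves to `z j` -/
theorem gen {o : G} {i j : ι} (e : cj o (Z i) = Z j) : o * z i * o⁻¹ = z j :=
  conj_gen c.h e (c.zZ i) (c.zn i) (c.zZ j) (c.zn j)

theorem eqz {i : ι} {x : G} (hx : x ∈ Z i) (h1 : x ≠ 1) : x = z i := Z_eq c.h hx (c.zZ i) h1 (c.zn i)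

theorem zU {i : ι} (hi : i ∈ r) : z i ∈ ⨆ j ∈ r, W j :=
  (le_iSup₂_of_le i hi le_rfl : W i ≤ ⨆ j ∈ r, W j) (Z_W c.h i (c.zZ i))

theorem UV : (⨆ j ∈ r, W j) ≤ zl (S : Subgroup G) P := iSup₂_le fun i _ => c.h.fr.WV i

/-- `O₂(F)` normalises `U`. -/
theorem nU {o u : G} (ho : o ∈ o2 F) (hu : u ∈ ⨆ j ∈ r, W j) : o * u * o⁻¹ ∈ ⨆ j ∈ r, W j := by
  have h1 : (⨆ j ∈ r, W j) ≤ (⨆ j ∈ r, W j).comap (MulAut.conj o).toMonoidHom := by
    refine iSup₂_le fun j hj w hw => ?_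
    change o * w * o⁻¹ ∈ ⨆ j ∈ r, W j
    obtain ⟨k, hk, hkW, -⟩ := perm c.h (c.ON ho) j
    have hkr := (c.inv o ho j k hk).1 hj
    refine (le_iSup₂_of_le k hkr le_rfl : W k ≤ ⨆ j ∈ r, W j) ?_
    rw [← hkW]
    exact ⟨w, hw, rfl⟩
  exact h1 hu

/-- `F` centralises `C_ZJ(T)`. -/
theorem F_cent {x f : G} (hx : x ∈ ZL (S : Subgroup G) n ⊓ centralizer (T : Set G)) (hf : f ∈ F) : f * x = x * f := by
  have h1 : x ∈ centralizer (F : Set G) :=
    c.hp.fix ⟨hx.1, centralizer_le (by exact_mod_cast c.O_le) hx.2⟩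
  exact mem_centralizer_iff.1 h1 f hf

/-- The end: `g ∈ C_G(C_ZJ(T))` which centralises `z i` lies in `M`. -/
theorem mem_M {g : G} {i : ι} (hi : i ∈ r)
    (hg : ∀ x ∈ ZL (S : Subgroup G) n ⊓ centralizer (T : Set G), g * x = x * g) (hz : g * z i * g⁻¹ = z i) : g ∈ M := by
  refine c.cen i hi ?_
  have h1 : (ZL (S : Subgroup G) n ⊓ centralizer (T : Set G) ⊔ Z i : Subgroup G) ≤ centralizer ({g} : Set G) := by
    refine sup_le (fun x hx => ?_) fun x hx => ?_ <;> rw [mem_centralizer_singleton_iff]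
    · exact (hg x hx).symm
    · by_cases hx1 : x = 1
      · rw [hx1]; simp
      · rw [c.eqz hx hx1]
        exact (mul_inv_eq_iff_eq_mul.1 hz).symm
  rw [mem_centralizer_iff]
  intro x hx
  exact mem_centralizer_singleton_iff.1 (h1 hx)

/-- the action of `tv l` on `U` is that of any `b ∈ B` moving `W l` and centralising the other `W m`, `m ∈ r` -/
theorem tv_act {l : ι} {b u : G} (hb : b ∈ BL (S : Subgroup G) n) (hm : ∃ w ∈ W l, b * w ≠ w * b)
    (hc : ∀ m ∈ r, m ≠ l → ∀ w ∈ W m, b * w = w * b) (hu : u ∈ ⨆ j ∈ r, W j) :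
    b * u * b⁻¹ = tv l * u * (tv l)⁻¹ := by
  have h1 : (⨆ j ∈ r, W j) ≤ centralizer ({(tv l)⁻¹ * b} : Set G) := by
    refine iSup₂_le fun m hmr w hw => ?_
    rw [mem_centralizer_singleton_iff]
    have h2 : b * w * b⁻¹ = tv l * w * (tv l)⁻¹ := by
      by_cases hml : m = l
      · subst hml
        exact same_act c.h hb (c.tvB m) hm (c.tvm m) hw
      · rw [hc m hmr hml w hw, c.h.fr.AC l (tv l) (c.tvA l) w (c.h.fr.WjC l m (Ne.symm hml) hw)]; group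
    calc w * ((tv l)⁻¹ * b) = (tv l)⁻¹ * (tv l * w * (tv l)⁻¹) * b := by group
      _ = (tv l)⁻¹ * (b * w * b⁻¹) * b := by rw [h2]
      _ = (tv l)⁻¹ * b * w := by group
  have h2 := mem_centralizer_singleton_iff.1 (h1 hu)
  calc b * u * b⁻¹ = tv l * ((tv l)⁻¹ * b * u) * b⁻¹ := by group
    _ = tv l * (u * ((tv l)⁻¹ * b)) * b⁻¹ := by rw [h2]
    _ = _ := by group

/-- an element of `V` moved by `tv j` moves to `u z_j` -/
theorem tv_mv {j : ι} {u : G} (hu : u ∈ zl (S : Subgroup G) P) (hm : tv j * u ≠ u * tv j) :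
    tv j * u * (tv j)⁻¹ = u * z j := by
  have h1 := c.h.fr.A_comm (c.tvA j) hu
  have h2 : tv j * u * (tv j)⁻¹ * u⁻¹ ≠ 1 := fun e => hm (mul_inv_eq_iff_eq_mul.1 (mul_inv_eq_one.1 e))
  have h3 := c.eqz h1 h2
  have h4 : tv j * u * (tv j)⁻¹ = z j * u := mul_inv_eq_iff_eq_mul.1 h3
  rw [h4]
  exact c.h.fr.Vc (c.h.fr.ZV j (c.zZ j)) hu

theorem tv_z (i j : ι) : tv j * z i = z i * tv j :=
  ((c.h.fr.mem_ZJ _).1 (c.h.fr.Z_le i (c.zZ i))).2 (tv j) (c.tvB j)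

/-- the element `o tv_j o⁻¹ tv_j⁻¹` of `O₂(F)` -/
theorem com_act {o : G} (ho : o ∈ o2 F) {j l : ι} (hj : j ∈ r) (e : cj o (Z j) = Z l) {u : G}
    (hu : u ∈ ⨆ j ∈ r, W j) (hm : tv j * u ≠ u * tv j) :
    ∃ o' ∈ o2 F, (tv l * u = u * tv l → o' * u * o'⁻¹ = u * z j) ∧
      (tv l * u ≠ u * tv l → o' * u * o'⁻¹ = u * z l * z j) := by
  have huV := c.UV hu
  have h1 : ∀ v ∈ ⨆ j ∈ r, W j, (o * tv j * o⁻¹) * v * (o * tv j * o⁻¹)⁻¹ = tv l * v * (tv l)⁻¹ := by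
    intro v hv
    have hoN := c.ON ho
    have hW := W_cj c.h hoN e
    refine c.tv_act ?_ ?_ ?_ hv
    · rw [← cj_eq_of_mem_normalizer hoN]
      exact ⟨tv j, c.tvB j, rfl⟩
    · obtain ⟨w, hw, hne⟩ := c.tvm j
      refine ⟨o * w * o⁻¹, by rw [← hW]; exact ⟨w, hw, rfl⟩, fun h2 => hne ?_⟩
      have := congrArg (fun t => o⁻¹ * t * o) h2
      simpa [mul_assoc] using this
    · intro m hmr hml w hw
      -- `W m = (W m')^o`, `m' ≠ j`
      obtain ⟨k, hk, hkW, -⟩ := perm c.h (inv_mem hoN) m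
      have hkj : k ≠ j := by
        rintro rfl
        apply hml
        apply Z_inj c.h
        rw [← e, ← hk, cj_cj_inv]
      have h2 : o⁻¹ * w * o ∈ W k := by
        rw [← hkW]
        exact ⟨w, hw, by change o⁻¹ * w * o⁻¹⁻¹ = _; rw [inv_inv]⟩
      have h3 := c.h.fr.AC j (tv j) (c.tvA j) _ (c.h.fr.WjC j k (Ne.symm hkj) h2)
      calc o * tv j * o⁻¹ * w = o * (tv j * (o⁻¹ * w * o)) * o⁻¹ := by group
        _ = o * ((o⁻¹ * w * o) * tv j) * o⁻¹ := by rw [h3]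
        _ = w * (o * tv j * o⁻¹) := by group
  have hz := c.tv_z
  -- `tv_j⁻¹ u tv_j = u z_j`
  have h2 : (tv j)⁻¹ * u * tv j = u * z j := by
    have h3 := c.tv_mv huV hm
    have h4 : u = (tv j)⁻¹ * (u * z j) * tv j := by rw [← h3]; group
    have h5 : (tv j)⁻¹ * (u * z j) * tv j = (tv j)⁻¹ * u * tv j * z j := by
      have h6 := hz j j
      calc (tv j)⁻¹ * (u * z j) * tv j = (tv j)⁻¹ * u * (z j * tv j) := by group
        _ = (tv j)⁻¹ * u * (tv j * z j) := by rw [h6]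
        _ = _ := by group
    have h6 : z j * z j = 1 := by
      have := SQ1.Bau.elem_sq c.h.fr.el (z j) (c.h.fr.ZV j (c.zZ j))
      rwa [pow_two] at this
    have h7 : (tv j)⁻¹ * u * tv j = (tv j)⁻¹ * u * tv j * z j * z j := by rw [mul_assoc _ (z j) (z j), h6, mul_one]
    rw [h7, ← h5, ← h4]
  refine ⟨o * tv j * o⁻¹ * (tv j)⁻¹, ?_, ?_, ?_⟩
  · have h3 : tv j ∈ F := c.TF (c.hp.BT (c.tvB j))
    have h4 := mul_mem ho (c.OF (inv_mem ho) h3)
    have e1 : o * (tv j * o⁻¹ * (tv j)⁻¹) = o * tv j * o⁻¹ * (tv j)⁻¹ := by group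
    rwa [e1] at h4
  · intro hl
    have e1 : o * tv j * o⁻¹ * (tv j)⁻¹ * u * (o * tv j * o⁻¹ * (tv j)⁻¹)⁻¹ =
      (o * tv j * o⁻¹) * ((tv j)⁻¹ * u * tv j) * (o * tv j * o⁻¹)⁻¹ := by group
    rw [e1, h2, h1 _ (mul_mem hu (c.zU hj))]
    have e2 : tv l * (u * z j) * (tv l)⁻¹ = (tv l * u) * z j * (tv l)⁻¹ := by group
    rw [e2, hl]
    have e3 : u * tv l * z j * (tv l)⁻¹ = u * (tv l * z j) * (tv l)⁻¹ := by group
    rw [e3, hz j l]; group
  · intro hl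
    have e1 : o * tv j * o⁻¹ * (tv j)⁻¹ * u * (o * tv j * o⁻¹ * (tv j)⁻¹)⁻¹ =
      (o * tv j * o⁻¹) * ((tv j)⁻¹ * u * tv j) * (o * tv j * o⁻¹)⁻¹ := by group
    rw [e1, h2, h1 _ (mul_mem hu (c.zU hj))]
    have e2 : tv l * (u * z j) * (tv l)⁻¹ = (tv l * u * (tv l)⁻¹) * (tv l * z j * (tv l)⁻¹) := by group
    have e3 : tv l * z j * (tv l)⁻¹ = z j := by rw [hz j l]; group
    rw [e2, e3, c.tv_mv huV hl]

theorem UC {j : ι} (hj : j ∉ r) : (⨆ j ∈ r, W j) ≤ C j :=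
  iSup₂_le fun m hm => c.h.fr.WjC j m fun e => hj (e ▸ hm)

theorem cV {u v : G} (hu : u ∈ zl (S : Subgroup G) P) (hv : v ∈ zl (S : Subgroup G) P) : u * v = v * u :=
  c.h.fr.Vc hu hv

theorem sqV {u : G} (hu : u ∈ zl (S : Subgroup G) P) : u * u = 1 := by
  have := SQ1.Bau.elem_sq c.h.fr.el u hu
  rwa [pow_two] at this

theorem zV (i : ι) : z i ∈ zl (S : Subgroup G) P := c.h.fr.ZV i (c.zZ i)

/-- elements of `Z_J` with support `r` are centralised by `F` -/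
theorem r_cent {x : G} (hx : x ∈ ZL (S : Subgroup G) n) (hs : ∀ k, x ∈ C k ↔ k ∉ r) {f : G} (hf : f ∈ F) :
    f * x = x * f := by
  have h1 : x ∈ centralizer (F : Set G) := c.hp.fix ⟨hx, mem_centralizer_iff.2 fun o ho =>
    comm_of_supp c.h (c.ON ho) hx fun i j e => by rw [hs i, hs j, c.inv o ho i j e]⟩
  exact mem_centralizer_iff.1 h1 f hf

/-! ### The conjugates `f⁻¹ z_p f` -/

theorem yU {f : G} (hf : f ∈ F) {i : ι} (hi : i ∈ r) (hy : f⁻¹ * z i * f ∈ ⨆ j ∈ r, W j) {p : ι} (hp : p ∈ r) :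
    f⁻¹ * z p * f ∈ ⨆ j ∈ r, W j := by
  obtain ⟨o, ho, e⟩ := c.tr i hi p hp
  have h1 := c.nU (c.OF' ho hf) hy
  have e1 : f⁻¹ * o * f * (f⁻¹ * z i * f) * (f⁻¹ * o * f)⁻¹ = f⁻¹ * (o * z i * o⁻¹) * f := by group
  rwa [e1, c.gen e] at h1

theorem yorb {f : G} (hf : f ∈ F) {o : G} (ho : o ∈ o2 F) {p : ι} (hp : p ∈ r) :
    ∃ p' ∈ r, o * (f⁻¹ * z p * f) * o⁻¹ = f⁻¹ * z p' * f := by
  have ho' := c.OF ho hf
  obtain ⟨p', h1, -, -⟩ := perm c.h (c.ON ho') p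
  refine ⟨p', (c.inv _ ho' p p' h1).1 hp, ?_⟩
  have e1 : o * (f⁻¹ * z p * f) * o⁻¹ = f⁻¹ * (f * o * f⁻¹ * z p * (f * o * f⁻¹)⁻¹) * f := by group
  rw [e1, c.gen h1]

/-- **(A)** -/
theorem mv_all {f : G} (hf : f ∈ F) (hU : ∀ p ∈ r, f⁻¹ * z p * f ∈ ⨆ j ∈ r, W j) {p j l : ι} (hp : p ∈ r)
    (hj : j ∈ r) (hl : l ∈ r) (hm : tv j * (f⁻¹ * z p * f) ≠ f⁻¹ * z p * f * tv j) :
    tv l * (f⁻¹ * z p * f) ≠ f⁻¹ * z p * f * tv l := by
  intro hn
  obtain ⟨o, ho, e⟩ := c.tr j hj l hl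
  obtain ⟨o', ho', h1, -⟩ := c.com_act ho hj e (hU p hp) hm
  obtain ⟨p', hp', h2⟩ := c.yorb hf ho' hp
  rw [h1 hn] at h2
  have h3 : f⁻¹ * (z p * z p') * f⁻¹⁻¹ = z j := by
    have e1 : f⁻¹ * (z p * z p') * f⁻¹⁻¹ = (f⁻¹ * z p * f) * (f⁻¹ * z p' * f) := by group
    rw [e1, ← h2, ← mul_assoc, c.sqV (c.UV (hU p hp)), one_mul]
  by_cases hpp : p = p'
  · subst hpp
    rw [c.sqV (c.zV p)] at h3
    apply c.zn j
    rw [← h3]; group
  · exact no_one_two c.h hpp (c.zZ p) (c.zn p) (c.zZ p') (c.zn p') (c.zZ j) h3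

omit [Finite G] c in
theorem prod_lem {y a b d : G} (hya : y * a = a * y) (hyb : y * b = b * y) (hyd : y * d = d * y) (hab : a * b = b * a)
    (had : a * d = d * a) (hbd : b * d = d * b) (hy : y * y = 1) (ha : a * a = 1) (hb : b * b = 1) (hd : d * d = 1) :
    y * a * b * (y * d * b) * (y * d * a) = y := by
  have c1 : Commute y a := hya
  have c2 : Commute y b := hyb
  have c3 : Commute y d := hyd
  have c4 : Commute a b := hab
  have c5 : Commute a d := had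
  have c6 : Commute b d := hbd
  have h1 : a * b * (y * d * b) = y * (a * d) := by
    have k : Commute (a * b) y := (c1.symm.mul_left c2.symm)
    calc a * b * (y * d * b) = (a * b * y) * (d * b) := by group
      _ = y * (a * b) * (d * b) := by rw [k.eq]
      _ = y * a * (b * d) * b := by group
      _ = y * a * (d * b) * b := by rw [c6.eq]
      _ = y * (a * d) * (b * b) := by group
      _ = _ := by rw [hb, mul_one]
  have h2 : y * (a * d) * (y * d * a) = 1 := by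
    have k : Commute (a * d) y := (c1.symm.mul_left c3.symm)
    calc y * (a * d) * (y * d * a) = y * ((a * d) * y) * (d * a) := by group
      _ = y * (y * (a * d)) * (d * a) := by rw [k.eq]
      _ = (y * y) * a * (d * d) * a := by group
      _ = 1 := by rw [hy, hd, one_mul, mul_one, ha]
  calc y * a * b * (y * d * b) * (y * d * a) = y * (a * b * (y * d * b)) * (y * d * a) := by group
    _ = y * (y * (a * d) * (y * d * a)) := by rw [h1]; group
    _ = y := by rw [h2, mul_one]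

/-- **(B)** three indices -/
theorem no_three {f : G} (hf : f ∈ F) (hU : ∀ p ∈ r, f⁻¹ * z p * f ∈ ⨆ j ∈ r, W j) {p j l m : ι} (hp : p ∈ r)
    (hj : j ∈ r) (hl : l ∈ r) (hm : m ∈ r) (hjl : j ≠ l) (hjm : j ≠ m) (hlm : l ≠ m)
    (hmv : tv j * (f⁻¹ * z p * f) ≠ f⁻¹ * z p * f * tv j) : False := by
  have hml := c.mv_all hf hU hp hj hl hmv
  have hmm := c.mv_all hf hU hp hj hm hmv
  obtain ⟨o1, ho1, e1⟩ := c.tr j hj l hl
  obtain ⟨o2', ho2, e2⟩ := c.tr j hj m hm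
  obtain ⟨o3, ho3, e3⟩ := c.tr l hl m hm
  obtain ⟨a1, ha1, -, h1⟩ := c.com_act ho1 hj e1 (hU p hp) hmv
  obtain ⟨a2, ha2, -, h2⟩ := c.com_act ho2 hj e2 (hU p hp) hmv
  obtain ⟨a3, ha3, -, h3⟩ := c.com_act ho3 hl e3 (hU p hp) hml
  obtain ⟨p1, hp1, k1⟩ := c.yorb hf ha1 hp
  obtain ⟨p2, hp2, k2⟩ := c.yorb hf ha2 hp
  obtain ⟨p3, hp3, k3⟩ := c.yorb hf ha3 hp
  rw [h1 hml] at k1
  rw [h2 hmm] at k2
  rw [h3 hmm] at k3
  have hyV := c.UV (hU p hp)
  have key := prod_lem (c.cV hyV (c.zV l)) (c.cV hyV (c.zV j)) (c.cV hyV (c.zV m)) (c.cV (c.zV l) (c.zV j))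
    (c.cV (c.zV l) (c.zV m)) (c.cV (c.zV j) (c.zV m)) (c.sqV hyV) (c.sqV (c.zV l)) (c.sqV (c.zV j)) (c.sqV (c.zV m))
  rw [k1, k2, k3] at key
  have key2 : z p1 * z p2 * z p3 = z p := by
    have := congrArg (fun t => f * t * f⁻¹) key
    have e4 : f * (f⁻¹ * z p1 * f * (f⁻¹ * z p2 * f) * (f⁻¹ * z p3 * f)) * f⁻¹ = z p1 * z p2 * z p3 := by group
    have e5 : f * (f⁻¹ * z p * f) * f⁻¹ = z p := by group
    exact e4.symm.trans (this.trans e5)
  have ne : ∀ {a b q : ι}, a ≠ b → f⁻¹ * z p * f * z a * z b = f⁻¹ * z q * f → p ≠ q := by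
    rintro a b q hab hq rfl
    have h4 : z a * z b = 1 := by
      have h5 : f⁻¹ * z p * f * (z a * z b) = f⁻¹ * z p * f * 1 := by rw [mul_one, ← mul_assoc]; exact hq
      exact mul_left_cancel h5
    have h5 : z a ∈ C a := by
      rw [mul_eq_one_iff_eq_inv.1 h4]
      exact inv_mem (Z_C c.h hab (c.zZ b))
    exact not_mem_C c.h (c.zZ a) (c.zn a) h5
  have n1 := ne hjl.symm k1
  have n2 := ne hjm.symm k2
  have n3 := ne hlm.symm k3
  refine not_mem_C c.h (c.zZ p) (c.zn p) ?_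
  rw [← key2]
  exact mul_mem (mul_mem (Z_C c.h n1 (c.zZ p1)) (Z_C c.h n2 (c.zZ p2))) (Z_C c.h n3 (c.zZ p3))

/-- the component in `W i` of an element commuting with `tv i` lies in `Z i` -/
theorem comp_Z {i : ι} {w d : G} (hw : w ∈ W i) (hd : d ∈ C i) (ht : tv i * (w * d) = w * d * tv i) : w ∈ Z i := by
  by_contra hwZ
  have h1 := mv_act c.h (c.tvB i) (c.tvm i) (c.zZ i) (c.zn i) hw hwZ
  have h2 := c.h.fr.AC i (tv i) (c.tvA i) d hd
  have h3 : tv i * (w * d) * (tv i)⁻¹ = w * z i * d := by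
    calc tv i * (w * d) * (tv i)⁻¹ = tv i * w * (tv i)⁻¹ * (tv i * d) * (tv i)⁻¹ := by group
      _ = w * z i * (d * tv i) * (tv i)⁻¹ := by rw [h1, h2]
      _ = _ := by group
  rw [ht, mul_inv_cancel_right] at h3
  have h4 : z i = 1 := by
    have h5 : w * (z i * d) = w * d := by rw [← mul_assoc, ← h3]
    have h6 := mul_left_cancel h5
    exact mul_eq_right.1 h6
  exact c.zn i h4

/-- **(D)** -/
theorem none {f : G} (hf : f ∈ F) {p : ι} (hp : p ∈ r) (hU : f⁻¹ * z p * f ∈ ⨆ j ∈ r, W j)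
    (hn : ∀ j ∈ r, tv j * (f⁻¹ * z p * f) = f⁻¹ * z p * f * tv j) : f ∈ M := by
  have hyV := c.UV hU
  have hyJ : f⁻¹ * z p * f ∈ ZL (S : Subgroup G) n := by
    refine c.h.fr.mem_ZJ_of hyV fun i a ha => ?_
    by_cases hi : i ∈ r
    · obtain ⟨w, hw, d, hd, e⟩ := c.h.fr.WC i _ hyV
      have h1 := hn i hi
      rw [e] at h1
      have h2 := c.comp_Z hw hd h1
      have h3 := c.h.fr.AC i a ha d hd
      have h4 : a * w = w * a := by
        rw [(c.h.fr.blk i).cZ a (c.h.fr.AB i ha) w h2]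
      have k : Commute a (w * d) := (show Commute a w from h4).mul_right h3
      rw [e]
      exact k.eq
    · exact c.h.fr.AC i a ha _ (c.UC hi hU)
  obtain ⟨j, hj, hjC⟩ := eq_single c.h (g := f⁻¹) (c.zZ p) (c.zn p) hyJ (by rw [inv_inv])
  have hjr : j ∈ r := by
    by_contra hjr
    exact hjC (c.UC hjr hU)
  have hy1 : f⁻¹ * z p * f ≠ 1 := fun h1 => hjC (by rw [h1]; exact one_mem _)
  have hyz := c.eqz hj hy1
  obtain ⟨o, ho, e⟩ := c.tr j hjr p hp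
  have hoF : o ∈ F := o2_le F ho
  have h1 : o * f⁻¹ ∈ M := by
    refine c.mem_M hp (fun x hx => c.F_cent hx (mul_mem hoF (inv_mem hf))) ?_
    have e1 : o * f⁻¹ * z p * (o * f⁻¹)⁻¹ = o * (f⁻¹ * z p * f) * o⁻¹ := by group
    rw [e1, hyz, c.gen e]
  have h2 := mul_mem (inv_mem h1) (c.TM (c.O_le ho))
  have e1 : (o * f⁻¹)⁻¹ * o = f := by group
  rwa [e1] at h2

/-- `t z_i ∈ C i` for `t ∈ Z_J`, `t ∉ C i` -/
theorem mul_z_mem {i : ι} {t : G} (ht : t ∈ ZL (S : Subgroup G) n) (hti : t ∉ C i) : t * z i ∈ C i := by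
  obtain ⟨w, hw, d, hd, -, e⟩ := c.h.fr.split_ZJ i ht
  have hw1 : w ≠ 1 := by
    rintro rfl
    exact hti (by rw [e, one_mul]; exact hd)
  have h1 := c.eqz hw hw1
  subst h1
  have h2 := c.cV (c.zV i) (c.h.fr.CV i hd)
  rw [e]
  have e1 : z i * d * z i = d * (z i * z i) := by rw [h2]; group
  rw [e1, c.sqV (c.zV i), mul_one]
  exact hd

/-- an element of `W j` outside `Z j` is `L j`-conjugate to `z j` -/
theorem cov {j : ι} {w : G} (hw : w ∈ W j) (hw1 : w ≠ 1) : ∃ x ∈ L j, x * w * x⁻¹ = z j := by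
  obtain ⟨x, hx, hwx⟩ := UniPlus.cover_two (nb c.h.fr j) hw
  rw [mem_cj] at hwx
  refine ⟨x⁻¹, inv_mem hx, ?_⟩
  rw [inv_inv]
  refine c.eqz hwx fun h1 => hw1 ?_
  have := congrArg (fun t => x * t * x⁻¹) h1
  simpa [mul_assoc] using this

/-- **(E)** two indices -/
theorem two {f : G} (hf : f ∈ F) {i j : ι} (hi : i ∈ r) (hj : j ∈ r) (hij : i ≠ j) (hall : ∀ k ∈ r, k = i ∨ k = j)
    (hU : f⁻¹ * z i * f ∈ ⨆ j ∈ r, W j) (hmv : tv j * (f⁻¹ * z i * f) ≠ f⁻¹ * z i * f * tv j) : f ∈ M := by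
  -- decomposition of the elements of `U`
  have hUle : (⨆ j ∈ r, W j) ≤ W i ⊔ W j := iSup₂_le fun k hk => by
    rcases hall k hk with rfl | rfl
    · exact le_sup_left
    · exact le_sup_right
  have dec : ∀ u ∈ ⨆ j ∈ r, W j, (∀ a ∈ A i, a * u = u * a) → ∃ s ∈ Z i, ∃ w ∈ W j, u = s * w := by
    intro u hu ha
    obtain ⟨s, hs, w, hw, e⟩ := mem_sup_comm (fun s hs w hw => c.cV (c.h.fr.WV i hs) (c.h.fr.WV j hw)) (hUle hu)
    refine ⟨s, c.comp_Z hs (c.h.fr.WjC i j hij hw) ?_, w, hw, e⟩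
    have := ha _ (c.tvA i)
    rwa [e] at this
  have LCi : ∀ l ∈ L i, l * z j * l⁻¹ = z j := fun l hl => by
    rw [c.h.fr.LC i l hl (z j) (c.h.fr.Z_le j (c.zZ j)) (Z_C c.h hij (c.zZ j))]; group
  have LCj : ∀ l ∈ L j, l * z i * l⁻¹ = z i := fun l hl => by
    rw [c.h.fr.LC j l hl (z i) (c.h.fr.Z_le i (c.zZ i)) (Z_C c.h (Ne.symm hij) (c.zZ i))]; group
  have no12 : ∀ g : G, ∀ k, g * (z i * z j) * g⁻¹ ≠ z k := fun g k e =>
    no_one_two c.h hij (c.zZ i) (c.zn i) (c.zZ j) (c.zn j) (c.zZ k) e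
  set y : G := f⁻¹ * z i * f with hy
  have hyV := c.UV hU
  -- Step 1
  obtain ⟨l, hl, hlA⟩ := step c.h.fr i hyV
  obtain ⟨s, hs, w, hw, e1⟩ := dec _ (nWr c.h.fr hi hl hU) hlA
  have hwZ : w ∉ Z j := by
    intro hwZ
    apply hmv
    have h1 : ∀ a ∈ A j, a * (l * y * l⁻¹) = l * y * l⁻¹ * a := by
      intro a ha
      have haB := c.h.fr.AB j ha
      have k1 : Commute a s := ((c.h.fr.mem_ZJ s).1 (c.h.fr.Z_le i hs)).2 a haB
      have k2 : Commute a w := ((c.h.fr.mem_ZJ w).1 (c.h.fr.Z_le j hwZ)).2 a haB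
      rw [e1]
      exact (k1.mul_right k2).eq
    have h2 := keep c.h.fr hij (inv_mem hl) (c.UV (nWr c.h.fr hi hl hU)) h1 _ (c.tvA j)
    have e2 : l⁻¹ * (l * y * l⁻¹) * l⁻¹⁻¹ = y := by group
    rwa [e2] at h2
  obtain ⟨x, hx, hxw⟩ := c.cov hw fun h1 => hwZ (by rw [h1]; exact one_mem _)
  have hs1 : s = 1 := by
    by_contra hs1
    have hsz := c.eqz hs hs1
    refine no12 (f * l⁻¹ * x⁻¹) i ?_
    have h1 : x * (l * y * l⁻¹) * x⁻¹ = z i * z j := by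
      rw [e1, hsz]
      have e2 : x * (z i * w) * x⁻¹ = (x * z i * x⁻¹) * (x * w * x⁻¹) := by group
      rw [e2, LCj x hx, hxw]
    rw [← h1, hy]; group
  rw [hs1, one_mul] at e1
  have hm1 : (x * l) * y * (x * l)⁻¹ = z j := by
    have e2 : (x * l) * y * (x * l)⁻¹ = x * (l * y * l⁻¹) * x⁻¹ := by group
    rw [e2, e1, hxw]
  -- Step 3
  have hzz : z i * z j ∈ ⨆ j ∈ r, W j := mul_mem (c.zU hi) (c.zU hj)
  have hu := nWr c.h.fr hj hx (nWr c.h.fr hi hl hzz)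
  obtain ⟨l', hl', hlA'⟩ := step c.h.fr i (c.UV hu)
  obtain ⟨s', hs', w', hw', e2⟩ := dec _ (nWr c.h.fr hi hl' hu) hlA'
  set m : G := l' * (x * l) with hm
  have hmy : m * y * m⁻¹ = z j := by
    have e3 : m * y * m⁻¹ = l' * ((x * l) * y * (x * l)⁻¹) * l'⁻¹ := by rw [hm]; group
    rw [e3, hm1, LCi l' hl']
  have hmz' : m * (z i * z j) * m⁻¹ = s' * w' := by
    rw [← e2, hm]; group
  have hmz : m * (z i * z j) * m⁻¹ = z i * z j := by
    by_cases hwZ' : w' ∈ Z j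
    · by_cases hs1' : s' = 1
      · exfalso
        rw [hs1', one_mul] at hmz'
        have hw1 : w' ≠ 1 := by
          rintro rfl
          apply c.zn j
          have h4 : z i * z j = 1 := by
            have := congrArg (fun t => m⁻¹ * t * m) hmz'
            simpa [mul_assoc] using this
          have h5 : z j ∈ C j := by
            rw [(mul_eq_one_iff_inv_eq.1 h4).symm]
            exact inv_mem (Z_C c.h (Ne.symm hij) (c.zZ i))
          exact absurd h5 (not_mem_C c.h (c.zZ j) (c.zn j))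
        rw [c.eqz hwZ' hw1] at hmz'
        exact no12 m j hmz'
      · have hsz := c.eqz hs' hs1'
        by_cases hw1 : w' = 1
        · exfalso
          rw [hw1, mul_one, hsz] at hmz'
          exact no12 m i hmz'
        · rw [hmz', hsz, c.eqz hwZ' hw1]
    · exfalso
      by_cases hs1' : s' = 1
      · rw [hs1', one_mul] at hmz'
        obtain ⟨x', hx', hxw'⟩ := c.cov hw' fun h1 => hwZ' (by rw [h1]; exact one_mem _)
        refine no12 (x' * m) j ?_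
        have e3 : x' * m * (z i * z j) * (x' * m)⁻¹ = x' * (m * (z i * z j) * m⁻¹) * x'⁻¹ := by group
        rw [e3, hmz', hxw']
      · have hsz := c.eqz hs' hs1'
        -- `y' = f⁻¹ z_j f = y z_i z_j`
        have hcent : f * (z i * z j) = z i * z j * f := by
          refine c.r_cent (mul_mem (c.h.fr.Z_le i (c.zZ i)) (c.h.fr.Z_le j (c.zZ j))) (fun k => ?_) hf
          have h5 : k ∈ {k | z i * z j ∉ C k} ↔ k ∈ ({i, j} : Set ι) := by
            rw [supp_two c.h hij (c.zZ i) (c.zn i) (c.zZ j) (c.zn j)]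
          simp only [Set.mem_setOf_eq, Set.mem_insert_iff, Set.mem_singleton_iff] at h5
          constructor
          · intro h6 hk
            exact h5.2 (hall k hk) h6
          · intro hk
            by_contra h6
            rcases h5.1 h6 with rfl | rfl
            · exact hk hi
            · exact hk hj
        have hy' : f⁻¹ * z j * f = y * (z i * z j) := by
          have h6 : z j = z i * (z i * z j) := by rw [← mul_assoc, c.sqV (c.zV i), one_mul]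
          calc f⁻¹ * z j * f = f⁻¹ * (z i * (z i * z j)) * f := by rw [← h6]
            _ = f⁻¹ * z i * (z i * z j * f) := by group
            _ = f⁻¹ * z i * (f * (z i * z j)) := by rw [hcent]
            _ = _ := by rw [hy]; group
        have h7 : m * (f⁻¹ * z j * f) * m⁻¹ = z i * (w' * z j) := by
          have e3 : m * (y * (z i * z j)) * m⁻¹ = (m * y * m⁻¹) * (m * (z i * z j) * m⁻¹) := by group
          rw [hy', e3, hmy, hmz', hsz]
          have k1 := c.cV (c.zV j) (mul_mem (c.zV i) (c.h.fr.WV j hw'))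
          rw [k1]; group
        have hwz : w' * z j ∉ Z j := fun h8 => hwZ' ((Subgroup.mul_mem_cancel_right _ (c.zZ j)).1 h8)
        obtain ⟨x', hx', hxw'⟩ := c.cov (mul_mem hw' (Z_W c.h j (c.zZ j))) fun h1 => hwz (by rw [h1]; exact one_mem _)
        refine no12 (f * m⁻¹ * x'⁻¹) j ?_
        have h8 : x' * (m * (f⁻¹ * z j * f) * m⁻¹) * x'⁻¹ = z i * z j := by
          rw [h7]
          have e3 : x' * (z i * (w' * z j)) * x'⁻¹ = (x' * z i * x'⁻¹) * (x' * (w' * z j) * x'⁻¹) := by group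
          rw [e3, LCj x' hx', hxw']
        rw [← h8]; group
  -- the end
  obtain ⟨o, ho, e3⟩ := c.tr j hj i hi
  have hoF : o ∈ F := o2_le F ho
  have hmLL : m ∈ L i ⊔ L j := mul_mem (mem_sup_left hl') (mul_mem (mem_sup_right hx) (mem_sup_left hl))
  have hmM : m ∈ M := (sup_le (c.LM i) (c.LM j)) hmLL
  have hmT : ∀ t ∈ ZL (S : Subgroup G) n ⊓ centralizer (T : Set G), m * t = t * m := by
    rintro t ⟨ht, htT⟩
    have hot : o * t * o⁻¹ = t := by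
      rw [mem_centralizer_iff.1 htT o (c.O_le ho)]; group
    have hiff := supp_cj c.h (c.ON ho) e3 ht
    rw [hot] at hiff
    have key : ∀ t ∈ ZL (S : Subgroup G) n, t ∈ C i → t ∈ C j → m * t = t * m := by
      intro t ht hti htj
      have h5 : L i ⊔ L j ≤ centralizer ({t} : Set G) := by
        refine sup_le (fun l hl => ?_) fun l hl => ?_ <;> rw [mem_centralizer_singleton_iff]
        · exact c.h.fr.LC i l hl t ht hti
        · exact c.h.fr.LC j l hl t ht htj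
      exact mem_centralizer_singleton_iff.1 (h5 hmLL)
    by_cases hti : t ∈ C i
    · exact key t ht hti (hiff.1 hti)
    · have htj : t ∉ C j := fun h5 => hti (hiff.2 h5)
      have ht' : t * (z i * z j) ∈ ZL (S : Subgroup G) n :=
        mul_mem ht (mul_mem (c.h.fr.Z_le i (c.zZ i)) (c.h.fr.Z_le j (c.zZ j)))
      have k1 : m * (t * (z i * z j)) = t * (z i * z j) * m := by
        refine key _ ht' ?_ ?_
        · rw [← mul_assoc]
          exact mul_mem (c.mul_z_mem ht hti) (Z_C c.h hij (c.zZ j))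
        · rw [c.cV (c.zV i) (c.zV j), ← mul_assoc]
          exact mul_mem (c.mul_z_mem ht htj) (Z_C c.h (Ne.symm hij) (c.zZ i))
      have k2 : m * (z i * z j) = z i * z j * m := mul_inv_eq_iff_eq_mul.1 hmz
      have k3 : Commute m (t * (z i * z j) * (z i * z j)⁻¹) :=
        (show Commute m _ from k1).mul_right (show Commute m _ from k2).inv_right
      rw [mul_inv_cancel_right] at k3
      exact k3.eq
  have hg : o * m * f⁻¹ ∈ M := by
    refine c.mem_M hi (fun t ht => ?_) ?_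
    · have k1 : Commute o t := c.F_cent ht hoF
      have k2 : Commute m t := hmT t ht
      have k3 : Commute f⁻¹ t := c.F_cent ht (inv_mem hf)
      exact ((k1.mul_left k2).mul_left k3).eq
    · have e4 : o * m * f⁻¹ * z i * (o * m * f⁻¹)⁻¹ = o * (m * y * m⁻¹) * o⁻¹ := by rw [hy]; group
      rw [e4, hmy, c.gen e3]
  have h5 := mul_mem (inv_mem hg) (mul_mem (c.TM (c.O_le ho)) hmM)
  have e4 : (o * m * f⁻¹)⁻¹ * (o * m) = f := by group
  rwa [e4] at h5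

/-- (TI) for `z_i`. -/
theorem ti_z {f : G} (hf : f ∈ F) {i : ι} (hi : i ∈ r) (hU : f⁻¹ * z i * f ∈ ⨆ j ∈ r, W j) : f ∈ M := by
  by_cases hn : ∀ j ∈ r, tv j * (f⁻¹ * z i * f) = f⁻¹ * z i * f * tv j
  · exact c.none hf hi hU hn
  push Not at hn
  obtain ⟨j₀, hj₀, hmv⟩ := hn
  have hUp : ∀ p ∈ r, f⁻¹ * z p * f ∈ ⨆ j ∈ r, W j := fun p hp => c.yU hf hi hU hp
  obtain ⟨j, hj, hji⟩ := c.nt i hi
  by_cases h3 : ∃ m ∈ r, m ≠ i ∧ m ≠ j
  · obtain ⟨m, hm, hmi, hmj⟩ := h3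
    exact (c.no_three hf hUp hi hi hj hm hji.symm hmi.symm hmj.symm (c.mv_all hf hUp hi hj₀ hi hmv)).elim
  · push Not at h3
    refine c.two hf hi hj hji.symm (fun k hk => ?_) hU (c.mv_all hf hUp hi hj₀ hj hmv)
    by_contra hcon
    push Not at hcon
    exact hcon.2 (h3 k hk hcon.1)

/-- **(TI)** -/
theorem ti {f : G} (hf : f ∈ F) {i : ι} (hi : i ∈ r) {x : G} (hx : x ∈ W i) (hx1 : x ≠ 1)
    (hxf : f⁻¹ * x * f ∈ ⨆ j ∈ r, W j) : f ∈ M := by
  by_cases hxZ : x ∈ Z i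
  · rw [c.eqz hxZ hx1] at hxf
    exact c.ti_z hf hi hxf
  refine c.ti_z hf hi ?_
  -- all elements `o x o⁻¹` have their conjugate in `U`
  have horb : ∀ o ∈ o2 F, f⁻¹ * (o * x * o⁻¹) * f ∈ ⨆ j ∈ r, W j := by
    intro o ho
    have h1 := c.nU (c.OF' ho hf) hxf
    have e1 : f⁻¹ * o * f * (f⁻¹ * x * f) * (f⁻¹ * o * f)⁻¹ = f⁻¹ * (o * x * o⁻¹) * f := by group
    rwa [e1] at h1
  obtain ⟨j, hj, hji⟩ := c.nt i hi
  obtain ⟨o, ho, e⟩ := c.tr i hi j hj
  have hW := W_cj c.h (c.ON ho) e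
  set x' : G := o * x * o⁻¹ with hx'
  have hxj : x' ∈ W j := by rw [← hW]; exact ⟨x, hx, rfl⟩
  have htx : tv i * x' = x' * tv i := c.h.fr.AC i _ (c.tvA i) _ (c.h.fr.WjC i j hji.symm hxj)
  have hF : tv i ∈ F := c.TF (c.hp.BT (c.tvB i))
  have h1 := mv_act c.h (c.tvB i) (c.tvm i) (c.zZ i) (c.zn i) hx hxZ
  set o' : G := (tv i * o * (tv i)⁻¹)⁻¹ * o with ho'
  have hoO : o' ∈ o2 F := mul_mem (inv_mem (c.OF ho hF)) ho
  have h2 : o' * x * o'⁻¹ = x * z i := by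
    have h3 : (tv i * o * (tv i)⁻¹) * (tv i * x * (tv i)⁻¹) * (tv i * o * (tv i)⁻¹)⁻¹ = x' := by
      have e1 : (tv i * o * (tv i)⁻¹) * (tv i * x * (tv i)⁻¹) * (tv i * o * (tv i)⁻¹)⁻¹ =
        tv i * (o * x * o⁻¹) * (tv i)⁻¹ := by group
      rw [e1, ← hx', htx]; group
    rw [h1] at h3
    have e1 : o' * x * o'⁻¹ = (tv i * o * (tv i)⁻¹)⁻¹ * (o * x * o⁻¹) * (tv i * o * (tv i)⁻¹) := by
      rw [ho']; group
    rw [e1, ← hx', ← h3]; group
  have h3 := horb _ hoO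
  rw [h2] at h3
  have h4 := mul_mem (inv_mem hxf) h3
  have e1 : (f⁻¹ * x * f)⁻¹ * (f⁻¹ * (x * z i) * f) = f⁻¹ * z i * f := by group
  rwa [e1] at h4

end Ctx

end line

end Cfsg.Agent.Omega.OM.SwapL
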