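import Cfsg.Agent.Omega.OM.SwapL.Main
import Cfsg.Agent.Omega.OM.Lev.Low.FrTwo

/-!
# THEOREM SW: (Om) is impossible for `q = 2`, no hypothesis

* `noOm_two` : `K0` normalises no nontrivial 2-subgroup, over the ground frame `Ln S P n L W Z C A 2` (natural and
  symmetric types);
* `nloc_two` : natural type;
* `omLevZ_two` : the socket `MultiOf.OmLev K (fun _ q => q = 2)`; `omOfZ_two` : `MultiOf.OmOf K (fun _ q => q = 2)`.
-/

set_option autoImplicit false

namespace Cfsg.Agent.Omega.OM.SwapL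

open Subgroup Cfsg Cfsg.Agent.ZN.ChoiceBase Cfsg.Agent.ZN.ChoiceSit
open Cfsg.Agent.ZN (jj zj bau zc zl o2)
open Cfsg.Agent.Omega.NO3S (HypN HypL)
open Cfsg.Agent.Omega.NO3S.Level (lev)
open Cfsg.Agent.Omega.FFThm (NatK NatKM)
open Cfsg.Agent.Omega.FrameFF (cv)
open Cfsg.Agent.Omega.Frame (Cls)
open Cfsg.Agent.Omega.OM.LevD (Fam K0)
open Cfsg.Agent.Omega.OM.LevB (FBlk)
open Cfsg.Agent.Omega.Node.MultiOf (FBl KZ NLoc OmLev OmNeg OmOf)

universe u

/-- **(Om) is impossible for `q = 2` at stage `n`**, over the ground frame. -/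
theorem noOm_two {G : Type u} [Group G] [Finite G] {ι : Type} [Finite ι] {S : Sylow 2 G} {P : Subgroup G} {n : ℕ}
    {L W Z C A : ι → Subgroup G} (h : Ln S P n L W Z C A 2) (hn1 : ¬ lev (S : Subgroup G) (n + 1) ≤ o2 P)
    (hF : Fam (BL (S : Subgroup G) n) (ZL (S : Subgroup G) n) (FBlk (BL (S : Subgroup G) n)))
    (hLM : ∀ i, L i ≤ K0 (ZL (S : Subgroup G) n) (FBlk (BL (S : Subgroup G) n))) :
    ∀ R : Subgroup G, IsPGroup 2 R →
      K0 (ZL (S : Subgroup G) n) (FBlk (BL (S : Subgroup G) n)) ≤ normalizer (R : Set G) → R = ⊥ := by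
  obtain ⟨c, hc, hcf⟩ := exists_full h
  exact noOmZ sitFFalse h hn1 hF hLM hc hcf (Lev.Low.lowZ h hc hcf)

/-- **(Om) is impossible for `q = 2`, at stage `n`.** -/
theorem nloc_two {G : Type u} [Group G] [Finite G]
    {S : Sylow 2 G} {P : Subgroup G} {k : ℕ} (h : HypL S P) {n : ℕ}
    (hall : ∀ R, MinPar.IsParS (S : Subgroup G) R → lev (S : Subgroup G) n ≤ o2 R)
    (hn1 : ¬ lev (S : Subgroup G) (n + 1) ≤ o2 P) (hk : 2 ≤ k)
    {F : Type} [Field F] [Finite F] [CharP F 2] (hF : Nat.card F = 2)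
    (N : NatKM F (S : Subgroup G) P (zl (S : Subgroup G) P) (cv (S : Subgroup G) P) k) :
    NLoc (KZ (BL (S : Subgroup G) n) (ZL (S : Subgroup G) n)) := by
  obtain ⟨M, L, Z, A, -, hFr, hBg, -⟩ := Lev.Main.bg_lev h.toHypN (hall P h.star) hn1 hk N
    (B := BL (S : Subgroup G) n) rfl
  rw [hF] at hFr hBg
  have hm : Node.MultiOf.Mul S P (lev (S : Subgroup G) (n + 1)) (BL (S : Subgroup G) n) (ZL (S : Subgroup G) n)
      L _ Z _ 2 :=
    ⟨h, Node.MultiOf.StgP.lev n hall (hall P h.star) hn1, hBg, F, inferInstance, inferInstance, inferInstance, hF,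
      ⟨N⟩⟩
  have hln : Ln S P n L _ Z _ A 2 := ⟨h.toHypN, hall P h.star, hFr, hBg.two⟩
  have hfam : Fam (BL (S : Subgroup G) n) (ZL (S : Subgroup G) n) (FBlk (BL (S : Subgroup G) n)) := by
    have e : FBlk (BL (S : Subgroup G) n) = FBl (BL (S : Subgroup G) n) := by
      funext L V
      exact propext ⟨fun h => ⟨h.fb, h.blk⟩, fun h => ⟨h.fb, h.blk⟩⟩
    rw [e]
    exact hm.fam
  have h1 := noOm_two hln hn1 hfam (fun i => by rw [K0_eq]; exact hm.L_le i)
  rw [K0_eq] at h1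
  exact h1

/-- **(Om), stage `n`, `q = 2`.** -/
theorem omLevZ_two {K : Cls.{u}} : OmLev K fun _ q => q = 2 := by
  intro G _ _ hK S P k h n hall hn1 hk F _ _ _ hF N B ZJ hZJ hB ho
  subst hZJ hB
  exact absurd (nloc_two h hall hn1 hk hF N _ (isPGroup_o2 _) (le_normalizer_o2 _)) ho

/-- **(Om), `q = 2`.** -/
theorem omOfZ_two {K : Cls.{u}} : OmOf K fun _ q => q = 2 :=
  Node.MultiOf.omOf_of omNeg_two omLevZ_two

end Cfsg.Agent.Omega.OM.SwapL
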