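import Cfsg.Agent.Omega.OM.SwapL.Plug
import Cfsg.Agent.Omega.OM.Swap.End
import Cfsg.Agent.Omega.Node.MultiOf

/-!
# THEOREM SW: (Om) is impossible for `q = 2`

* `sitFFalse`; `omNeg_two` : the socket `MultiOf.OmNeg K (fun _ q => q = 2)` (no hypothesis);
* `LowTwo K` : **LL**, for `q = 2`, in the local groups `M ≥ K0, N_G(B)`;
* `nloc` : `K0` normalises no nontrivial 2-subgroup;
* `omLev_two` : the socket `MultiOf.OmLev K (fun _ q => q = 2)`, modulo `LowTwo K`;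
* `omOf_two` : `MultiOf.OmOf K (fun _ q => q = 2)`, modulo `LowTwo K`.
-/

set_option autoImplicit false

namespace Cfsg.Agent.Omega.OM.SwapL

open Subgroup Cfsg Cfsg.Agent.ZN.ChoiceBase Cfsg.Agent.ZN.ChoiceSit
open Cfsg.Agent.ZN (jj zj bau zc zl o2)
open Cfsg.Agent.Omega.NO3S (HypN HypL)
open Cfsg.Agent.Omega.NO3S.Level (lev)
open Cfsg.Agent.Omega.FFThm (NatK NatKM)
open Cfsg.Agent.Omega.FrameFF (cv)
open Cfsg.Agent.Omega.Frame (Cls)
open Cfsg.Agent.Omega.OM.LevD (Fam)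
open Cfsg.Agent.Omega.OM.LevB (FBlk)
open Cfsg.Agent.Omega.Node.MultiOf (FBl KZ NLoc OmLev OmNeg OmOf)

universe u

theorem sitFFalse : SitFFalse.{u} := fun _ _ _ _ _ _ _ _ _ _ h => h.false

/-- **(Om), stage `-1`, `q = 2`.** -/
theorem omNeg_two {K : Cls.{u}} : OmNeg K fun _ q => q = 2 :=
  Node.MultiOf.omNeg_two Swap.sitFalse FF.Glob.ffthm FF.Glob.aStmt

/-- `K0`, over `FBl`. -/
theorem K0_eq {G : Type u} [Group G] (B ZJ : Subgroup G) : LevD.K0 ZJ (FBlk B) = KZ B ZJ := by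
  have e : FBlk B = FBl B := by
    funext L V
    exact propext ⟨fun h => ⟨h.fb, h.blk⟩, fun h => ⟨h.fb, h.blk⟩⟩
  rw [e]
  rfl

/-- **LL for `q = 2`** : in a local group `M ≥ K0, N_G(B)` (as in (Om)), the minimal parabolics `Y` of smaller stage over
a 2-group `T ≥ B` which move `Ω₁Z(T)` lie in `M`. -/
def LowTwo (K : Cls.{u}) : Prop :=
  ∀ (G : Type u) [Group G] [Finite G], K G → ∀ (S : Sylow 2 G) (P : Subgroup G) (k : ℕ), HypL S P → ∀ n : ℕ,
    (∀ R, MinPar.IsParS (S : Subgroup G) R → lev (S : Subgroup G) n ≤ o2 R) →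
    ¬ lev (S : Subgroup G) (n + 1) ≤ o2 P → 2 ≤ k →
    ∀ (F : Type) [Field F] [Finite F] [CharP F 2], Nat.card F = 2 →
      NatKM F (S : Subgroup G) P (zl (S : Subgroup G) P) (cv (S : Subgroup G) P) k →
        ∀ M : Subgroup G, KZ (BL (S : Subgroup G) n) (ZL (S : Subgroup G) n) ≤ M →
          normalizer (BL (S : Subgroup G) n : Set G) ≤ M → o2 M ≠ ⊥ → Low S n M

/-- **(Om) is impossible for `q = 2`, at stage `n`.** -/
theorem nloc {K : Cls.{u}} (hl : LowTwo K) {G : Type u} [Group G] [Finite G] (hK : K G)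
    {S : Sylow 2 G} {P : Subgroup G} {k : ℕ} (h : HypL S P) {n : ℕ}
    (hall : ∀ R, MinPar.IsParS (S : Subgroup G) R → lev (S : Subgroup G) n ≤ o2 R)
    (hn1 : ¬ lev (S : Subgroup G) (n + 1) ≤ o2 P) (hk : 2 ≤ k)
    {F : Type} [Field F] [Finite F] [CharP F 2] (hF : Nat.card F = 2)
    (N : NatKM F (S : Subgroup G) P (zl (S : Subgroup G) P) (cv (S : Subgroup G) P) k) :
    NLoc (KZ (BL (S : Subgroup G) n) (ZL (S : Subgroup G) n)) := by
  obtain ⟨M, L, Z, A, -, hFr, hBg, -⟩ := Lev.Main.bg_lev h.toHypN (hall P h.star) hn1 hk N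
    (B := BL (S : Subgroup G) n) rfl
  rw [hF] at hFr hBg
  have hm : Node.MultiOf.Mul S P (lev (S : Subgroup G) (n + 1)) (BL (S : Subgroup G) n) (ZL (S : Subgroup G) n)
      L _ Z _ 2 :=
    ⟨h, Node.MultiOf.StgP.lev n hall (hall P h.star) hn1, hBg, F, inferInstance, inferInstance, inferInstance, hF,
      ⟨N⟩⟩
  have hln : Ln S P n L _ Z _ A 2 := ⟨h.toHypN, hall P h.star, hFr, hBg.two⟩
  have hfam : Fam (BL (S : Subgroup G) n) (ZL (S : Subgroup G) n) (FBlk (BL (S : Subgroup G) n)) := by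
    have e : FBlk (BL (S : Subgroup G) n) = FBl (BL (S : Subgroup G) n) := by
      funext L V
      exact propext ⟨fun h => ⟨h.fb, h.blk⟩, fun h => ⟨h.fb, h.blk⟩⟩
    rw [e]
    exact hm.fam
  have h1 := noOm sitFFalse hln hn1 hfam (fun i => by rw [K0_eq]; exact hm.L_le i) fun M hM hN ho => by
    rw [K0_eq] at hM
    exact hl G hK S P k h n hall hn1 hk F hF N M hM hN ho
  rw [K0_eq] at h1
  exact h1

/-- **(Om), stage `n`, `q = 2`.** -/
theorem omLev_two {K : Cls.{u}} (hl : LowTwo K) : OmLev K fun _ q => q = 2 := by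
  intro G _ _ hK S P k h n hall hn1 hk F _ _ _ hF N B ZJ hZJ hB ho
  subst hZJ hB
  exact absurd (nloc hl hK h hall hn1 hk hF N _ (isPGroup_o2 _) (le_normalizer_o2 _)) ho

/-- **(Om), `q = 2`.** -/
theorem omOf_two {K : Cls.{u}} (hl : LowTwo K) : OmOf K fun _ q => q = 2 :=
  Node.MultiOf.omOf_of omNeg_two (omLev_two hl)

end Cfsg.Agent.Omega.OM.SwapL
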