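import Cfsg.Agent.Omega.OM.Lev.Uni
import Cfsg.Agent.Omega.OM.Lev.Dich
import Cfsg.Agent.Omega.OM.Lev.FixPt
import Cfsg.Agent.Omega.OM.Lev.Wc
import Cfsg.Agent.Omega.OM.UniPlus
import Cfsg.Agent.Omega.NO3S.Basic

/-!
# THEOREM SW at the levels `n ≥ 0`, STEP 0: the ground frame

* `Ln S P n L W Z C A q` : `HypN S P`, `lev S n ≤ O₂(P)` and the frame `FrL` over `B = C_S(Z_J)`,
  `Z_J = Ω₁Z(lev S (n+1))`, `X = Ω₁Z(lev S n)`, with at least two blocks;
* `perm` (`q = 2`) : `N_G(B)` permutes the triples `(W i, Z i, Z_J ∩ C i)`; supports of the elements of `Z_J`.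
-/

set_option autoImplicit false

namespace Cfsg.Agent.Omega.OM.SwapL

open Subgroup Cfsg Cfsg.Agent.ZN.ChoiceBase Cfsg.Agent.ZN.ChoiceSit
open Cfsg.Agent.ZN (jj zj bau zc zl o2)
open Cfsg.Agent.Omega.NO3S (HypN)
open Cfsg.Agent.Omega.NO3S.Level (lev Lev lev_isLev)
open Cfsg.Agent.Omega.OM.LevD (LB)
open Cfsg.Agent.Omega.OM.Lev.Uni (FrL)
open Cfsg.Agent.Omega.OM.UniPlus (NB)
open Cfsg.Agent.Omega.OM.WeakCl (WC)

universe u

variable {G : Type u} [Group G] [Finite G]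

/-- `Z_J = Ω₁Z(lev S (n+1))` -/
noncomputable def ZL (S : Subgroup G) (n : ℕ) : Subgroup G := zc (lev S (n + 1))

/-- `B = C_S(Z_J)` -/
noncomputable def BL (S : Subgroup G) (n : ℕ) : Subgroup G := S ⊓ centralizer (zc (lev S (n + 1)) : Set G)

/-- The ground frame at stage `n`. -/
structure Ln {ι : Type} (S : Sylow 2 G) (P : Subgroup G) (n : ℕ) (L W Z C A : ι → Subgroup G) (q : ℕ) : Prop where
  hyp : HypN S P
  le : lev (S : Subgroup G) n ≤ o2 P
  fr : FrL (BL (S : Subgroup G) n) (o2 P) (zl (S : Subgroup G) P) (zc (lev (S : Subgroup G) n))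
    (ZL (S : Subgroup G) n) L W Z C A q
  two : ∀ i : ι, ∃ j, j ≠ i

theorem lb (S : Sylow 2 G) (n : ℕ) : LB S (lev (S : Subgroup G) (n + 1)) (BL (S : Subgroup G) n)
    (ZL (S : Subgroup G) n) := LevD.LB.lev S (n + 1)

theorem wc (S : Sylow 2 G) (n : ℕ) : WC (BL (S : Subgroup G) n) := LevD.wc_lev S (n + 1)

theorem cj_mul_eq {g h : G} {X Y U : Subgroup G} (h1 : cj h X = Y) (h2 : cj g Y = U) : cj (g * h) X = U := by
  rw [← cj_cj, h1, h2]

theorem cj_inv_eq {g : G} {X Y : Subgroup G} (h1 : cj g X = Y) : cj g⁻¹ Y = X := by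
  rw [← h1, cj_inv_cj]

/-- `N_G(B) ≤ N_G(lev S m)`, `m ≤ n + 1`. -/
theorem norm_lev (S : Sylow 2 G) {n m : ℕ} (hm : m ≤ n + 1) :
    normalizer (BL (S : Subgroup G) n : Set G) ≤ normalizer (lev (S : Subgroup G) m : Set G) :=
  Lev.Wc.norm_lev S hm rfl

section line

variable {ι : Type} {S : Sylow 2 G} {P : Subgroup G} {n : ℕ} {L W Z C A : ι → Subgroup G} {q : ℕ}

omit [Finite G] in
theorem nb {B Q V X ZJ : Subgroup G} (h : FrL B Q V X ZJ L W Z C A q) (i : ι) : NB B (L i) (W i) (Z i) q :=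
  ⟨h.blk i, h.cardZ i⟩

theorem mem_C_iff {B Q V X ZJ : Subgroup G} (h : FrL B Q V X ZJ L W Z C A q) {i : ι} {z : G} (hz : z ∈ ZJ) :
    z ∈ C i ↔ ∀ l ∈ L i, l * z = z * l := by
  constructor
  · exact fun hc l hl => h.LC i l hl z hz hc
  · intro hL
    obtain ⟨w, hw, c, hc, hcJ, e⟩ := h.split_ZJ i hz
    have h1 : w = 1 := by
      refine (nb h i).cent hw fun l hl => ?_
      have h2 := hL l hl
      have h3 := h.LC i l hl c hcJ hc
      have e1 : w = z * c⁻¹ := by rw [e]; group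
      have c1 : Commute l z := h2
      have c2 : Commute l c := h3
      rw [e1]
      exact (c1.mul_right c2.inv_right).eq
    rw [e, h1, one_mul]
    exact hc

variable [Finite ι]

/-- **(U1)** -/
theorem Ln.norm (h : Ln S P n L W Z C A q) {g : G} (hg : g ∈ normalizer (BL (S : Subgroup G) n : Set G)) :
    cj g (zl (S : Subgroup G) P) = zl (S : Subgroup G) P ∧
      ∀ i, ∃ j, cj g (Z i) = Z j ∧ cj g (W i) ≤ W j ⊔ ZL (S : Subgroup G) n :=
  h.fr.norm_of hg (NO3S.Level.normalizer_le_zc _ (norm_lev S (by omega) hg))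

theorem Ln.norm_le (h : Ln S P n L W Z C A q) :
    normalizer (BL (S : Subgroup G) n : Set G) ≤ normalizer (zl (S : Subgroup G) P : Set G) := fun g hg => by
  rw [mem_normalizer_iff_cj]
  exact (h.norm hg).1

/-- `N_G(B)` permutes the triples `(W i, Z i, Z_J ∩ C i)`. -/
theorem perm (h : Ln S P n L W Z C A 2) {g : G} (hg : g ∈ normalizer (BL (S : Subgroup G) n : Set G)) (i : ι) :
    ∃ j, cj g (Z i) = Z j ∧ cj g (W i) = W j ∧
      ∀ z ∈ ZL (S : Subgroup G) n, (g * z * g⁻¹ ∈ C j ↔ z ∈ C i) := by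
  have hN := (nb h.fr i).conj g
  rw [cj_eq_of_mem_normalizer hg] at hN
  obtain ⟨j, hZ, hW⟩ := (h.norm hg).2 i
  rw [hZ] at hN
  rw [← h.fr.zcB] at hW
  have hB2 : IsPGroup 2 (BL (S : Subgroup G) n) := (lb S n).Bp
  obtain ⟨h1, h2, -⟩ := UniPlus.uni_two (wc S n) hB2 (nb h.fr j) hN hW
  obtain ⟨-, h3, -⟩ := UniPlus.uni_two (wc S n) hB2 hN (nb h.fr j) (h1.ge.trans le_sup_left)
  refine ⟨j, hZ, h1, fun z hz => ?_⟩
  have hz' : g * z * g⁻¹ ∈ ZL (S : Subgroup G) n := by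
    have h4 := cj_eq_of_mem_normalizer ((lb S n).norm_B_le hg)
    rw [← h4]
    exact ⟨z, hz, rfl⟩
  have hzc : g * z * g⁻¹ ∈ zc (BL (S : Subgroup G) n) := by rw [h.fr.zcB]; exact hz'
  rw [mem_C_iff h.fr hz', mem_C_iff h.fr hz]
  constructor
  · intro h4 l hl
    have h5 := h2 _ hzc h4 (g * l * g⁻¹) ⟨l, hl, rfl⟩
    have h6 := congrArg (fun t => g⁻¹ * t * g) h5
    simpa [mul_assoc] using h6
  · intro h4
    refine h3 _ hzc fun l hl => ?_
    have h5 := h4 _ (mem_cj.1 hl)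
    have h6 := congrArg (fun t => g * t * g⁻¹) h5
    simpa [mul_assoc] using h6

omit [Finite ι] in
theorem Z_ne (h : Ln S P n L W Z C A 2) (i : ι) : ∃ z ∈ Z i, z ≠ 1 := by
  have h1 : 1 < Nat.card (Z i) := by rw [h.fr.cardZ i]; norm_num
  have : Nontrivial (Z i) := Finite.one_lt_card_iff_nontrivial.1 h1
  obtain ⟨z, hz⟩ := exists_ne (1 : Z i)
  exact ⟨z, z.2, fun h => hz (Subtype.ext h)⟩

omit [Finite ι] in
theorem Z_W (h : Ln S P n L W Z C A 2) (i : ι) : Z i ≤ W i := (h.fr.blk i).ZV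

omit [Finite ι] in
theorem not_mem_C (h : Ln S P n L W Z C A 2) {i : ι} {z : G} (hz : z ∈ Z i) (h1 : z ≠ 1) : z ∉ C i := by
  intro hc
  have h2 : z ∈ W i ⊓ C i := mem_inf.2 ⟨Z_W h i hz, hc⟩
  rw [h.fr.dir i, mem_bot] at h2
  exact h1 h2

omit [Finite ι] in
theorem Z_C (h : Ln S P n L W Z C A 2) {i j : ι} (hij : i ≠ j) : Z j ≤ C i := (Z_W h j).trans (h.fr.WjC i j hij)

omit [Finite ι] in
/-- `Z` is injective. -/
theorem Z_inj (h : Ln S P n L W Z C A 2) {i j : ι} (e : Z i = Z j) : i = j := by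
  by_contra hne
  obtain ⟨z, hz, hz1⟩ := Z_ne h i
  exact not_mem_C h hz hz1 (Z_C h hne (e ▸ hz))

omit [Finite ι] in
theorem Z_eq (h : Ln S P n L W Z C A 2) {i : ι} {x y : G} (hx : x ∈ Z i) (hy : y ∈ Z i) (hx1 : x ≠ 1)
    (hy1 : y ≠ 1) : x = y := UniPlus.eq_of_card_two (h.fr.cardZ i) hx hy hx1 hy1

omit [Finite ι] in
/-- If `g` normalises `Z i` it centralises it. -/
theorem cent_of_cj (h : Ln S P n L W Z C A 2) {i : ι} {g : G} (e : cj g (Z i) = Z i) {z : G} (hz : z ∈ Z i) :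
    g * z = z * g := by
  by_cases h1 : z = 1
  · rw [h1]; simp
  have h2 : g * z * g⁻¹ ∈ Z i := by rw [← e]; exact ⟨z, hz, rfl⟩
  have h3 := Z_eq h h2 hz (fun h3 => h1 (by simpa using h3)) h1
  exact mul_inv_eq_iff_eq_mul.1 h3

omit [Finite ι] in
/-- If `g` moves `Z i` to `Z j` it moves the generator to the generator. -/
theorem conj_gen (h : Ln S P n L W Z C A 2) {i j : ι} {g : G} (e : cj g (Z i) = Z j) {z w : G} (hz : z ∈ Z i)
    (h1 : z ≠ 1) (hw : w ∈ Z j) (h2 : w ≠ 1) : g * z * g⁻¹ = w :=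
  Z_eq h (by rw [← e]; exact ⟨z, hz, rfl⟩) hw (fun h3 => h1 (by simpa using h3)) h2

omit [Finite ι] in
/-- An element of `Z_J` is determined by its support. -/
theorem eq_of_supp (h : Ln S P n L W Z C A 2) {x y : G} (hx : x ∈ ZL (S : Subgroup G) n)
    (hy : y ∈ ZL (S : Subgroup G) n) (hs : ∀ i, x ∈ C i ↔ y ∈ C i) : x = y := by
  have hxV := h.fr.ZJV hx
  have hyV := h.fr.ZJV hy
  have h1 : x * y⁻¹ = 1 := by
    refine h.fr.C0 _ (mul_mem hxV (inv_mem hyV)) fun i => ?_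
    by_cases hxi : x ∈ C i
    · exact mul_mem hxi (inv_mem ((hs i).1 hxi))
    have hyi : y ∉ C i := fun hc => hxi ((hs i).2 hc)
    obtain ⟨w, hw, c, hc, -, e⟩ := h.fr.split_ZJ i hx
    obtain ⟨w', hw', c', hc', -, e'⟩ := h.fr.split_ZJ i hy
    have hw1 : w ≠ 1 := by
      rintro rfl
      exact hxi (by rw [e, one_mul]; exact hc)
    have hw1' : w' ≠ 1 := by
      rintro rfl
      exact hyi (by rw [e', one_mul]; exact hc')
    have h2 := Z_eq h hw hw' hw1 hw1'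
    have h3 : w * c = c * w := h.fr.Vc (h.fr.ZV i hw) (h.fr.CV i hc)
    have h4 : w * c' = c' * w := h.fr.Vc (h.fr.ZV i hw) (h.fr.CV i hc')
    have e1 : x * y⁻¹ = c * c'⁻¹ := by
      rw [e, e', ← h2, h3, h4]; group
    rw [e1]
    exact mul_mem hc (inv_mem hc')
  exact mul_inv_eq_one.1 h1

/-- Every subset of the index set is a support. -/
theorem exists_supp (h : Ln S P n L W Z C A 2) (s : Set ι) :
    ∃ x ∈ ZL (S : Subgroup G) n, ∀ i, (x ∈ C i ↔ i ∉ s) := by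
  classical
  have : Fintype ι := Fintype.ofFinite ι
  suffices H : ∀ t : Finset ι, ∃ x ∈ ZL (S : Subgroup G) n, ∀ i, (x ∈ C i ↔ i ∉ t) by
    obtain ⟨x, hx, hs⟩ := H s.toFinset
    exact ⟨x, hx, fun i => by rw [hs i, Set.mem_toFinset]⟩
  intro t
  induction t using Finset.induction_on with
  | empty => exact ⟨1, one_mem _, fun i => by simp [one_mem]⟩
  | insert j t hj ih =>
    obtain ⟨x, hx, hs⟩ := ih
    obtain ⟨z, hz, hz1⟩ := Z_ne h j
    refine ⟨x * z, mul_mem hx (h.fr.Z_le j hz), fun i => ?_⟩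
    by_cases hij : i = j
    · subst hij
      have h1 : x ∈ C i := (hs i).2 hj
      constructor
      · intro h2
        exact absurd ((Subgroup.mul_mem_cancel_left _ h1).1 h2) (not_mem_C h hz hz1)
      · intro h2
        exact absurd (Finset.mem_insert_self i t) h2
    · have h1 : z ∈ C i := Z_C h hij hz
      rw [Subgroup.mul_mem_cancel_right _ h1, hs i, Finset.mem_insert, not_or]
      exact ⟨fun h2 => ⟨hij, h2⟩, fun h2 => h2.2⟩

/-- The support of a conjugate under `N_G(B)`. -/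
theorem supp_cj (h : Ln S P n L W Z C A 2) {g : G} (hg : g ∈ normalizer (BL (S : Subgroup G) n : Set G)) {i j : ι}
    (e : cj g (Z i) = Z j) {z : G} (hz : z ∈ ZL (S : Subgroup G) n) : g * z * g⁻¹ ∈ C j ↔ z ∈ C i := by
  obtain ⟨k, h1, -, h2⟩ := perm h hg i
  have h3 : j = k := Z_inj h (e.symm.trans h1)
  rw [h3]
  exact h2 z hz

theorem W_cj (h : Ln S P n L W Z C A 2) {g : G} (hg : g ∈ normalizer (BL (S : Subgroup G) n : Set G)) {i j : ι}
    (e : cj g (Z i) = Z j) : cj g (W i) = W j := by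
  obtain ⟨k, h1, h2, -⟩ := perm h hg i
  have h3 : j = k := Z_inj h (e.symm.trans h1)
  rw [h3]
  exact h2

omit [Finite ι] in
theorem ZL_cj_mem {g : G} (hg : g ∈ normalizer (BL (S : Subgroup G) n : Set G)) {z : G}
    (hz : z ∈ ZL (S : Subgroup G) n) : g * z * g⁻¹ ∈ ZL (S : Subgroup G) n := by
  have h3 := cj_eq_of_mem_normalizer ((lb S n).norm_B_le hg)
  rw [← h3]
  exact ⟨z, hz, rfl⟩

/-- `g ∈ N_G(B)` centralises `z ∈ Z_J` if it stabilises its support. -/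
theorem comm_of_supp (h : Ln S P n L W Z C A 2) {g : G} (hg : g ∈ normalizer (BL (S : Subgroup G) n : Set G)) {z : G}
    (hz : z ∈ ZL (S : Subgroup G) n) (hs : ∀ i j, cj g (Z i) = Z j → (z ∈ C i ↔ z ∈ C j)) : g * z = z * g := by
  have h1 : g * z * g⁻¹ = z := by
    refine eq_of_supp h (ZL_cj_mem hg hz) hz fun j => ?_
    obtain ⟨i, hi, -, -⟩ := perm h (inv_mem hg) j
    have e : cj g (Z i) = Z j := by
      have := cj_inv_eq hi
      rwa [inv_inv] at this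
    rw [supp_cj h hg e hz]
    exact hs i j e
  exact mul_inv_eq_iff_eq_mul.1 h1

end line

end Cfsg.Agent.Omega.OM.SwapL
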