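import Cfsg.Agent.Omega.OM.SwapL.Frame
import Cfsg.Agent.Omega.OM.Swap.Pair
import Cfsg.Agent.Omega.OM.Lev.BlkGen

/-!
# THEOREM SW at the levels, STEP 0: pairs `(T, F)` inside every subgroup of characteristic 2 over `B` not contained
in `M`

`BM S n M` : minimal parabolics `Y` over a 2-group `T ≥ B` with `lev S (n+1) ≰ O₂(Y)`, `[Ω₁Z(T), Y] ≠ 1` lie in `M`.
-/

set_option autoImplicit false

namespace Cfsg.Agent.Omega.OM.SwapL

open Subgroup Cfsg Cfsg.Agent.ZN.ChoiceBase Cfsg.Agent.ZN.ChoiceSit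
open Cfsg.Agent.ZN (jj zj bau zc zl o2)
open Cfsg.Agent.MinSimple.MinParabolic (IsMinPar)
open Cfsg.Agent.MinSimple.VModule (oddGen oddGen_le)
open Cfsg.Agent.Omega.NO3S (HypN)
open Cfsg.Agent.Omega.NO3S.Level (lev Lev lev_isLev)
open Cfsg.Agent.Omega.OM.LevD (LB K0)

universe u

variable {G : Type u} [Group G] [Finite G]

/-- **(F1)** a conjugate of `B` inside `M` is a conjugate by an element of `M`. -/
theorem mem_of_cj_B_le (S : Sylow 2 G) {n : ℕ} {M : Subgroup G} (hSM : (S : Subgroup G) ≤ M)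
    (hN : normalizer (BL (S : Subgroup G) n : Set G) ≤ M) {g : G} (h : cj g (BL (S : Subgroup G) n) ≤ M) : g ∈ M := by
  have hS : Syl (S : Subgroup G) M := ⟨hSM, S.isPGroup', fun Q _ hQ hle => S.is_maximal' hQ hle⟩
  have h2 : IsPGroup 2 (cj g (BL (S : Subgroup G) n)) := isPGroup_cj g (lb S n).Bp
  obtain ⟨T, hT, hle⟩ := exists_syl h2 h
  obtain ⟨m, hm, rfl⟩ := syl_conj hS hT
  have h3 : cj (m⁻¹ * g) (BL (S : Subgroup G) n) ≤ (S : Subgroup G) := by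
    have := cj_mono m⁻¹ hle
    rwa [cj_inv_cj, cj_cj] at this
  have h4 := wc S n _ S.isPGroup' (lb S n).BS _ h3
  have h5 : m⁻¹ * g ∈ M := hN (mem_normalizer_iff_cj.2 h4)
  have h6 := mul_mem hm h5
  rwa [mul_inv_cancel_left] at h6

/-- The pairs `(T, F)` of STEP 0. -/
structure Pair (S : Sylow 2 G) (P : Subgroup G) (n : ℕ) (M T F : Subgroup G) : Prop where
  syl : Syl T F
  BT : BL (S : Subgroup G) n ≤ T
  nM : ¬ F ≤ M
  min : ∀ K : Subgroup G, T ≤ K → K < F → K ≤ M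
  VO : zl (S : Subgroup G) P ≤ o2 F
  fix : ZL (S : Subgroup G) n ⊓ centralizer (o2 F : Set G) ≤ centralizer (F : Set G)

/-- Minimal parabolics over `T ≥ B` which move `Ω₁Z(T)` lie in `M`: the blocks at stage `n` and LL. -/
def BM (S : Sylow 2 G) (n : ℕ) (M : Subgroup G) : Prop :=
  ∀ T Y : Subgroup G, Syl T Y → BL (S : Subgroup G) n ≤ T → IsMinPar T Y →
    Y ⊓ centralizer (o2 Y : Set G) ≤ o2 Y → ¬ lev (S : Subgroup G) (n + 1) ≤ o2 Y →
    ¬ Y ≤ centralizer (zc T : Set G) → Y ≤ M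

/-- `BM` for the minimal parabolics inside `H`. -/
def BMH (S : Sylow 2 G) (n : ℕ) (M H : Subgroup G) : Prop :=
  ∀ T Y : Subgroup G, Syl T Y → BL (S : Subgroup G) n ≤ T → IsMinPar T Y → Y ≤ H →
    Y ⊓ centralizer (o2 Y : Set G) ≤ o2 Y → ¬ lev (S : Subgroup G) (n + 1) ≤ o2 Y →
    ¬ Y ≤ centralizer (zc T : Set G) → Y ≤ M

section line

variable {ι : Type} [Finite ι] {S : Sylow 2 G} {P : Subgroup G} {n : ℕ} {L W Z C A : ι → Subgroup G} {q : ℕ}

/-- a 2-group over `B` normalises `V`. -/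
theorem two_norm (h : Ln S P n L W Z C A q) {T : Subgroup G} (hT : IsPGroup 2 T)
    (hB : BL (S : Subgroup G) n ≤ T) : T ≤ normalizer (zl (S : Subgroup G) P : Set G) :=
  ((lb S n).two_le hT hB).trans h.norm_le

omit [Finite ι] in
theorem V_le_B (h : Ln S P n L W Z C A q) : zl (S : Subgroup G) P ≤ BL (S : Subgroup G) n :=
  h.fr.VQ.trans h.fr.QB

/-- `V ≤ O₂(Y)` if `Y` centralises `Ω₁(Z(T))`, `B ≤ T ≤ Y`. -/
theorem V_le_o2 (h : Ln S P n L W Z C A q) {T Y : Subgroup G} (hT : IsPGroup 2 T)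
    (hB : BL (S : Subgroup G) n ≤ T) (hTY : T ≤ Y) (hY : Y ≤ centralizer (zc T : Set G)) :
    zl (S : Subgroup G) P ≤ o2 Y := by
  obtain ⟨S', hS'⟩ := hT.exists_le_sylow
  obtain ⟨g, hg⟩ := MulAction.exists_smul_eq G S S'
  have hg2 : (S' : Subgroup G) = cj g (S : Subgroup G) := by
    rw [← hg, Sylow.coe_subgroup_smul]
    rfl
  have hgN : g ∈ normalizer (BL (S : Subgroup G) n : Set G) := by
    have h1 : cj g⁻¹ (BL (S : Subgroup G) n) ≤ (S : Subgroup G) := by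
      have := cj_mono g⁻¹ ((hB.trans hS').trans hg2.le)
      rwa [cj_inv_cj] at this
    have h2 := wc S n _ S.isPGroup' (lb S n).BS _ h1
    have h3 := inv_mem (mem_normalizer_iff_cj.2 h2)
    rwa [inv_inv] at h3
  have h3 : zc (S' : Subgroup G) ≤ zc T := by
    intro z hz
    have h4 : z ∈ T := by
      rw [hg2, NO3S.Level.zc_cj] at hz
      have h5 : zc (S : Subgroup G) ≤ ZL (S : Subgroup G) n := (lev_isLev (S : Subgroup G) (n + 1)).zc_le
      have h6 := cj_mono g h5 hz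
      rw [cj_eq_of_mem_normalizer ((lb S n).norm_B_le hgN)] at h6
      exact hB ((lb S n).ZB h6)
    obtain ⟨h5, h6, h7⟩ := mem_zc.1 hz
    exact mem_zc.2 ⟨h4, h6, fun y hy => h7 y (hS' hy)⟩
  have h4 : Y ≤ centralizer (zc (S' : Subgroup G) : Set G) := hY.trans (centralizer_le h3)
  have h5 : zl (S : Subgroup G) P ≤ o2 (centralizer (zc (S' : Subgroup G) : Set G)) := by
    have h6 := cj_mono g (h.hyp.low P h.hyp.star)
    rw [(h.norm hgN).1, ← pCore_cj, cj_centralizer, ← LemmaK.Main.zc_cj, ← hg2] at h6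
    exact h6
  have h6 : zl (S : Subgroup G) P ≤ o2 (centralizer (zc (S' : Subgroup G) : Set G)) ⊓ Y :=
    le_inf h5 (((V_le_B h).trans hB).trans hTY)
  refine h6.trans (le_o2 ((isPGroup_o2 _).to_le inf_le_left) inf_le_right ?_)
  intro y hy
  rw [mem_normalizer_iff_cj, cj_inf, cj_eq_of_mem_normalizer (le_normalizer_o2 _ (h4 hy)),
    cj_eq_of_mem_normalizer (le_normalizer hy)]

/-- **Existence of pairs**, blocks inside `H` only. -/
theorem exists_pairH (h : Ln S P n L W Z C A q) {M H : Subgroup G} (hBM : BMH S n M H)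
    (hD : centralizer (ZL (S : Subgroup G) n : Set G) ≤ M) (hN : normalizer (BL (S : Subgroup G) n : Set G) ≤ M)
    (hB : BL (S : Subgroup G) n ≤ H) (hc : H ⊓ centralizer (o2 H : Set G) ≤ o2 H) (hM : ¬ H ≤ M) :
    ∃ T F : Subgroup G, Pair S P n M T F ∧ F ≤ H := by
  have : Fact (Nat.Prime 2) := ⟨Nat.prime_two⟩
  obtain ⟨T₀, hT₀, hBT₀⟩ := exists_syl (lb S n).Bp hB
  have hK : K0 (ZL (S : Subgroup G) n) (fun _ _ => False) ≤ M := sup_le hD (iSup_le fun i => i.2.elim)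
  have hsylY : ∀ Y : Subgroup G, IsMinPar T₀ Y → Y ≤ H → Syl T₀ Y := fun Y hY hYH =>
    ⟨hY.le, hT₀.2.1, fun Q hQ h2 hTQ => hT₀.2.2 Q (hQ.trans hYH) h2 hTQ⟩
  have hcY' : ∀ Y : Subgroup G, IsMinPar T₀ Y → Y ≤ H → Y ⊓ centralizer (o2 Y : Set G) ≤ o2 Y := by
    intro Y hY hYH
    have h4 : o2 H ≤ o2 Y :=
      le_o2 (isPGroup_o2 H) ((o2_le_syl hT₀).trans hY.le) (hYH.trans (le_normalizer_o2 H))
    rintro x ⟨hx, hxc⟩
    exact h4 (hc ⟨hYH hx, centralizer_le (by exact_mod_cast h4) hxc⟩)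
  have hKT : lev (S : Subgroup G) (n + 1) ≤ T₀ := (lb S n).KB.trans hBT₀
  have hfix : ∀ Y : Subgroup G, IsMinPar T₀ Y → Y ≤ H → LevD.FixPt (lev (S : Subgroup G) (n + 1)) T₀ Y :=
    fun Y hY hYH => LevD.fixPt S (hsylY Y hY hYH) hKT hY
  have hg := LevB.genM (lb S n) hK hN hT₀ hBT₀ hc hfix
    fun Y hY hYH => hBM T₀ Y (hsylY Y hY hYH) hBT₀ hY hYH (hcY' Y hY hYH)
  -- the minimal parabolic `Y`
  obtain ⟨Y, ⟨hYm, hYH, hYK, hYc, -⟩, hYM⟩ : ∃ Y : Subgroup G, (IsMinPar T₀ Y ∧ Y ≤ H ∧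
      ¬ lev (S : Subgroup G) (n + 1) ≤ o2 Y ∧
      Y ≤ centralizer (zc T₀ : Set G) ∧ ¬ o2 Y ≤ BL (S : Subgroup G) n) ∧ ¬ Y ≤ M := by
    by_contra hcon
    push Not at hcon
    exact hM (hg.trans (sup_le inf_le_right (iSup_le fun Y => hcon Y.1 Y.2)))
  have hTM : T₀ ≤ M := ((lb S n).two_le hT₀.2.1 hBT₀).trans hN
  have hTY : Syl T₀ Y := hsylY Y hYm hYH
  have hcY := hcY' Y hYm hYH
  have hVY : zl (S : Subgroup G) P ≤ o2 Y := V_le_o2 h hT₀.2.1 hBT₀ hYm.le hYc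
  -- `Y₁ = O²(Y) O₂(Y) B`
  set Y₁ : Subgroup G := oddGen Y ⊔ (o2 Y ⊔ BL (S : Subgroup G) n) with hY₁
  have hY₁Y : Y₁ ≤ Y := sup_le (oddGen_le Y) (sup_le (o2_le Y) (hBT₀.trans hYm.le))
  have hOB : IsPGroup 2 (o2 Y ⊔ BL (S : Subgroup G) n : Subgroup G) :=
    hT₀.2.1.to_le (sup_le (o2_le_syl hTY) hBT₀)
  obtain ⟨T, hT, hOT⟩ := exists_syl hOB (le_sup_right : o2 Y ⊔ BL (S : Subgroup G) n ≤ Y₁)
  have hY₁M : ¬ Y₁ ≤ M := by
    intro hle
    apply hYM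
    rw [← Dich.oddGen_sup_syl hTY]
    exact sup_le (le_sup_left.trans hle) hTM
  obtain ⟨F, hF⟩ := (Set.toFinite {K : Subgroup G | T ≤ K ∧ K ≤ Y₁ ∧ ¬ K ≤ M}).exists_minimal
    ⟨Y₁, hT.1, le_rfl, hY₁M⟩
  obtain ⟨hTF, hFY₁, hFM⟩ := hF.prop
  have hFY : F ≤ Y := hFY₁.trans hY₁Y
  have hsyl : Syl T F := ⟨hTF, hT.2.1, fun Q hQ h2 hle => hT.2.2 Q (hQ.trans hFY₁) h2 hle⟩
  have hBT : BL (S : Subgroup G) n ≤ T := le_sup_right.trans hOT
  have hOF : o2 Y ≤ o2 F :=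
    le_o2 (isPGroup_o2 Y) ((le_sup_left.trans hOT).trans hTF) (hFY.trans (le_normalizer_o2 Y))
  refine ⟨T, F, ⟨hsyl, hBT, hFM, fun K hTK hKF => ?_, hVY.trans hOF, ?_⟩, hFY.trans hYH⟩
  · by_contra hKM
    exact hKF.not_ge (hF.le_of_le ⟨hTK, hKF.le.trans hFY₁, hKM⟩ hKF.le)
  · rintro z ⟨hz, hzc⟩
    have hzB : z ∈ BL (S : Subgroup G) n := (lb S n).ZB hz
    have hzO : ∀ y ∈ o2 Y, y * z = z * y := fun y hy => mem_centralizer_iff.1 hzc y (hOF hy)
    have hz1 : z ∈ zc (o2 Y) := by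
      refine mem_zc.2 ⟨hcY ⟨hYm.le (hBT₀ hzB), mem_centralizer_iff.2 hzO⟩, (lb S n).sq z hz, hzO⟩
    have hz2 : z ∈ centralizer (oddGen Y : Set G) := hfix Y hYm hYH hYK hYc hz1
    have hle : Y₁ ≤ centralizer ({z} : Set G) := by
      refine sup_le (fun y hy => ?_) (sup_le (fun y hy => ?_) fun y hy => ?_) <;>
        rw [mem_centralizer_singleton_iff]
      · exact mem_centralizer_iff.1 hz2 y hy
      · exact hzO y hy
      · exact (mem_centralizer_iff.1 ((lb S n).Bc hy) z hz).symm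
    rw [mem_centralizer_iff]
    intro y hy
    exact mem_centralizer_singleton_iff.1 (hle (hFY₁ hy))

/-- **Existence of pairs.** -/
theorem exists_pair (h : Ln S P n L W Z C A q) {M H : Subgroup G} (hBM : BM S n M)
    (hD : centralizer (ZL (S : Subgroup G) n : Set G) ≤ M) (hN : normalizer (BL (S : Subgroup G) n : Set G) ≤ M)
    (hB : BL (S : Subgroup G) n ≤ H) (hc : H ⊓ centralizer (o2 H : Set G) ≤ o2 H) (hM : ¬ H ≤ M) :
    ∃ T F : Subgroup G, Pair S P n M T F ∧ F ≤ H :=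
  exists_pairH h (fun T Y hT hB' hY _ => hBM T Y hT hB' hY) hD hN hB hc hM

end line

/-! ### The stage of `F` -/

/-- The family of offenders of a pair: `𝒜(F)`, or the best offenders on `Ω₁Z(lev S s)`. -/
structure Stg (S : Sylow 2 G) (n : ℕ) (T F : Subgroup G) (s : ℕ) : Prop where
  le : s ≤ n
  low : lev (S : Subgroup G) s ≤ o2 F
  nle : ¬ lev (S : Subgroup G) (s + 1) ≤ o2 F

section stage

variable {S : Sylow 2 G} {P : Subgroup G} {n : ℕ} {M T F : Subgroup G}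

theorem Pair.nK (hp : Pair S P n M T F) (hZM : normalizer (ZL (S : Subgroup G) n : Set G) ≤ M) :
    ¬ lev (S : Subgroup G) (n + 1) ≤ o2 F := fun hle =>
  hp.nM ((le_normalizer_o2 F).trans (((lb S n).nrm _ (isPGroup_o2 F) hle).trans hZM))

theorem exists_stage (hp : Pair S P n M T F) (hZM : normalizer (ZL (S : Subgroup G) n : Set G) ≤ M) :
    ¬ jj (S : Subgroup G) ≤ o2 F ∨ ∃ s, Stg S n T F s := by
  classical
  by_cases h0 : jj (S : Subgroup G) ≤ o2 F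
  · right
    have hex : ∃ m, ¬ lev (S : Subgroup G) m ≤ o2 F := ⟨n + 1, hp.nK hZM⟩
    obtain ⟨m, hm, hmin⟩ : ∃ m, ¬ lev (S : Subgroup G) m ≤ o2 F ∧ ∀ k, k < m → lev (S : Subgroup G) k ≤ o2 F :=
      ⟨Nat.find hex, Nat.find_spec hex, fun k hk => by
        by_contra hcon
        exact Nat.find_min hex hk hcon⟩
    have hmn : m ≤ n + 1 := by
      by_contra hcon
      exact hp.nK hZM (hmin (n + 1) (by omega))
    obtain ⟨s, rfl⟩ : ∃ s, m = s + 1 := by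
      refine ⟨m - 1, ?_⟩
      have : m ≠ 0 := by
        rintro rfl
        exact hm h0
      omega
    exact ⟨s, by omega, hmin s (by omega), hm⟩
  · exact Or.inl h0

end stage

end Cfsg.Agent.Omega.OM.SwapL
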