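import Cfsg.Agent.Omega.OM.SwapL.Pair
import Cfsg.Agent.Omega.OM.SwapL.Mod
import Cfsg.Agent.Omega.OM.Swap.Fam.SitF

/-!
# THEOREM SW at the levels, STEP 0: the family of offenders of a pair

`exists_fam` : a pair `(T, F)` of any stage `-1 ≤ s ≤ n` has a family `𝓐` as in helper394's `Fm`; some member in `T` is
not in `O₂(F)`; the members in `T` lie in `B`, and they centralise `V` or are best offenders on `Ω₁Z(lev S n)`.
-/

set_option autoImplicit false

namespace Cfsg.Agent.Omega.OM.SwapL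

open Subgroup Cfsg Cfsg.Agent.ZN.ChoiceBase Cfsg.Agent.ZN.ChoiceSit
open Cfsg.Agent.ZN (jj zj bau zc zl o2)
open Cfsg.Agent.MinSimple.MinParabolic (IsMinPar)
open Cfsg.Agent.Omega.NO3S (HypN)
open Cfsg.Agent.Omega.NO3S.Level (lev Lev lev_isLev BO nxt)
open Cfsg.Agent.Omega.OM.LevD (LB K0)
open Cfsg.Agent.Omega.OM.Swap.Fam (Fm BF fm_AA fm_best)

universe u

variable {G : Type u} [Group G] [Finite G]

section line

variable {ι : Type} {S : Sylow 2 G} {P : Subgroup G} {n : ℕ} {L W Z C A : ι → Subgroup G} {q : ℕ}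

/-- members of lower levels centralise `V` -/
theorem comm_V (h : Ln S P n L W Z C A q) {a v : G} (ha : a ∈ lev (S : Subgroup G) n)
    (hv : v ∈ zl (S : Subgroup G) P) : a * v = v * a := h.fr.cQ (h.le ha) hv

theorem zc_elab (K : Subgroup G) : IsElementaryAbelian 2 (zc K) :=
  ⟨⟨⟨fun a b => Subtype.ext ((mem_zc.1 b.2).2.2 _ (mem_zc.1 a.2).1)⟩⟩, fun a ha => (mem_zc.1 ha).2.1⟩

theorem V_le_X (h : Ln S P n L W Z C A q) {s : ℕ} (hs : s ≤ n) :
    zl (S : Subgroup G) P ≤ zc (lev (S : Subgroup G) s) :=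
  h.fr.VX.trans ((lev_isLev (S : Subgroup G) s).zc_le_zc (NO3S.Level.lev_mono _ hs)
    (NO3S.Level.lev_le (S : Subgroup G) n))

theorem Pair.minPar {M T F : Subgroup G} (hp : Pair S P n M T F)
    (hZM : normalizer (ZL (S : Subgroup G) n : Set G) ≤ M) : IsMinPar T F := by
  refine ⟨hp.syl.1, fun hle => ?_, F ⊓ M, lt_of_le_of_ne inf_le_left fun e => hp.nM (inf_eq_left.1 e),
    fun K hTK hKF => le_inf hKF.le (hp.min K hTK hKF)⟩
  apply hp.nK hZM
  exact ((lb S n).KB.trans hp.BT).trans (le_o2 hp.syl.2.1 hp.syl.1 hle)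

/-- The family of offenders. -/
theorem exists_fam (h : Ln S P n L W Z C A q) {M T F : Subgroup G} (hp : Pair S P n M T F)
    (hD : centralizer (ZL (S : Subgroup G) n : Set G) ≤ M) (hTM : T ≤ M)
    (hZM : normalizer (ZL (S : Subgroup G) n : Set G) ≤ M) :
    ∃ 𝓐 : Set (Subgroup G),
      (∀ Λ : Subgroup G, IsElementaryAbelian 2 Λ → Λ ≤ F → F ≤ normalizer (Λ : Set G) →
        Λ ≤ NoFF.Basic.V (zl (S : Subgroup G) P) F → Fm F Λ 𝓐) ∧
      (∃ X ∈ 𝓐, X ≤ T ∧ ¬ X ≤ o2 F) ∧
      ∀ X ∈ 𝓐, X ≤ T → X ≤ BL (S : Subgroup G) n ∧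
        ((∀ a ∈ X, ∀ v ∈ zl (S : Subgroup G) P, a * v = v * a) ∨
          Lev.Uni.Best (zc (lev (S : Subgroup G) n)) X) := by
  have hT2 := hp.syl.2.1
  have hKT : lev (S : Subgroup G) (n + 1) ≤ T := (lb S n).KB.trans hp.BT
  have h0T : jj (S : Subgroup G) ≤ T :=
    (NO3S.Level.lev_mono (S : Subgroup G) (Nat.zero_le (n + 1))).trans hKT
  rcases exists_stage hp hZM with hJ | ⟨s, hs, hlow, hnle⟩
  · -- stage `-1`
    have hjT : jj T = jj (S : Subgroup G) := MinSimple.EmptyTI.jj_eq S hT2 h0T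
    refine ⟨AA F, fun Λ hΛ hΛF hn _ => fm_AA hΛ hΛF hn, ?_, fun X hX hXT => ?_⟩
    · by_contra hcon
      push Not at hcon
      apply hJ
      rw [← hjT, Cfsg.Agent.ZN.ChoiceBase.jj_eq]
      exact sSup_le fun X hX => hcon X (Swap.AA_of_syl hp.syl hX) hX.2.1
    · have h1 : X ≤ lev (S : Subgroup G) 0 := by
        have := le_jj (Swap.AA_of_le hX hXT hp.syl.1)
        rwa [hjT] at this
      have h2 : X ≤ lev (S : Subgroup G) n := h1.trans (NO3S.Level.lev_mono _ (Nat.zero_le n))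
      exact ⟨(h2.trans (NO3S.Level.lev_mono _ (Nat.le_succ n))).trans (lb S n).KB,
        Or.inl fun a ha v hv => comm_V h (h2 ha) hv⟩
  · -- stage `s`
    have hX := zc_elab (lev (S : Subgroup G) s)
    have hFN : F ≤ normalizer (zc (lev (S : Subgroup G) s) : Set G) :=
      (le_normalizer_o2 F).trans ((LB.lev S s).nrm _ (isPGroup_o2 F) hlow)
    have hlev : ∀ j, j ≤ n + 1 → lev T j = lev (S : Subgroup G) j := LevD.lev_eq S hT2 hKT
    have hVX := V_le_X h hs
    refine ⟨BF F (zc (lev (S : Subgroup G) s)), fun Λ hΛ hΛF hn hle => fm_best hX hFN ?_ hn, ?_, fun X hXA hXT => ?_⟩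
    · refine hle.trans (NoFF.Basic.V_le fun f hf => ?_)
      have h1 := cj_mono f hVX
      rwa [cj_eq_of_mem_normalizer (hFN hf)] at h1
    · by_contra hcon
      push Not at hcon
      apply hnle
      rw [← hlev (s + 1) (by omega)]
      have e : lev T (s + 1) = nxt T (lev T s) := rfl
      rw [e, hlev s (by omega)]
      have : Fact (Nat.Prime 2) := ⟨Nat.prime_two⟩
      have hNn : F ≤ normalizer ((F ⊓ centralizer (zc (lev (S : Subgroup G) s) : Set G) : Subgroup G) : Set G) := by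
        intro f hf
        rw [mem_normalizer_iff_cj, cj_inf, cj_centralizer, cj_eq_of_mem_normalizer (hFN hf),
          cj_eq_of_mem_normalizer (le_normalizer hf)]
      refine sup_le ?_ (sSup_le fun X hX' => hcon X ⟨hX'.1.trans hp.syl.1, hT2.to_le hX'.1, hX'.2⟩ hX'.1)
      rcases (hp.minPar hZM).sup_eq_or_inf_le (p := 2) hT2 (syl_not_dvd hp.syl)
        (N := F ⊓ centralizer (zc (lev (S : Subgroup G) s) : Set G)) inf_le_left hNn with h1 | h1
      · exfalso
        apply hp.nM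
        rw [← h1]
        refine sup_le ((inf_le_right.trans (centralizer_le ?_)).trans hD) hTM
        exact_mod_cast h.fr.ZJV.trans hVX
      · refine le_trans (fun x hx => ?_) h1
        exact ⟨hx.1, hp.syl.1 hx.1, hx.2⟩
    · have h1 : X ≤ lev (S : Subgroup G) (s + 1) := by
        rw [← hlev (s + 1) (by omega)]
        have e : lev T (s + 1) = nxt T (lev T s) := rfl
        rw [e, hlev s (by omega)]
        exact NO3S.Level.BO.le_nxt ⟨hXT, hXA.2.2⟩
      refine ⟨(h1.trans (NO3S.Level.lev_mono _ (by omega))).trans (lb S n).KB, ?_⟩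
      rcases hs.lt_or_eq with hlt | rfl
      · left
        intro a ha v hv
        exact comm_V h (NO3S.Level.lev_mono (S : Subgroup G) (by omega : s + 1 ≤ n) (h1 ha)) hv
      · right
        exact fun F' h1 h2 => hXA.2.2.max F' h2 h1

end line

end Cfsg.Agent.Omega.OM.SwapL
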